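import Cfsg.Agent.H303.ReeFac
import Cfsg.Agent.H420.Rg.Base
import Cfsg.Agent.S2127

/-!
# S3691: the small Ree groups (helper420)

* `card_le_of_rho` : a proper subgroup of `²G₂(q)` whose order is divisible by the primitive prime `ρ ∣ q² - q + 1` has
  order at most `6 (q + r + 1)`;
* `noTri_ree` : no `Tri (Lie.twistedG2 K (3 ^ m)) X Y e`, `m ≥ 5`.
-/

set_option autoImplicit false
set_option linter.unusedSectionVars false

namespace Cfsg.Agent.H420.Rg

open Cfsg Subgroup Cfsg.Agent.H947.El Cfsg.Agent.H303.ReeFac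

section

variable {R : Type*} [Group R] [Finite R] {m q r ρ : ℕ} (h : ReeF R m q r) (n : ReeN m q r ρ)

include h n

/-- an elementary abelian subgroup normalised by `M` if `ρ` divides `|M|` -/
theorem elem_le (M : Subgroup R) (hM : ρ ∣ Nat.card M) {p : ℕ} (hp : p.Prime)
    {E : Subgroup R} (hE : IsPGroup p E) (hE1 : E ≠ ⊥) (hEe : ∀ x ∈ E, x ^ p = 1)
    (hn : M ≤ Subgroup.normalizer (E : Set R)) : Nat.card M ≤ 6 * (q + r + 1) := by
  have : Fact ρ.Prime := ⟨n.pr⟩
  have : Fact p.Prime := ⟨hp⟩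
  have h27 := n.q27
  have h19 := n.q19
  have hge := n.ge
  have hm := h.hm
  have hrq := n.rq
  obtain ⟨x, hx⟩ := exists_prime_orderOf_dvd_card' (G := M) ρ hM
  have hxo : orderOf (x : R) = ρ := by rw [Subgroup.orderOf_coe, hx]
  have hnt : Nontrivial E := (Subgroup.nontrivial_iff_ne_bot E).2 hE1
  have hcE : 1 < Nat.card E := Finite.one_lt_card
  obtain ⟨a, ha⟩ := (IsPGroup.iff_card).1 hE
  have ha0 : 0 < a := by
    rcases Nat.eq_zero_or_pos a with rfl | ha0
    · rw [pow_zero] at ha; omega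
    · exact ha0
  rcases Nat.lt_or_ge 3 p with h3p | hp3
  · obtain ⟨A, hA⟩ := normalizer_of_elem h n hp h3p hE hE1 hEe
    have hρN : ρ ∣ Nat.card (Subgroup.normalizer (E : Set R)) := hM.trans (Subgroup.card_dvd_of_le hn)
    rcases hA with ⟨hA1, hA2⟩ | ⟨hA1, hA2⟩ | ⟨hA1, hA2⟩
    · exfalso
      rw [hA2, show 4 * A = 2 * (2 * A) by ring, hA1] at hρN
      rcases n.pr.dvd_mul.1 hρN with h1 | h1
      · have := Nat.le_of_dvd (by norm_num) h1; omega
      · exact n.nq1 h1
    · exfalso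
      rw [hA2, show 24 * A = 6 * (4 * A) by ring, hA1] at hρN
      rcases n.pr.dvd_mul.1 hρN with h1 | h1
      · have := Nat.le_of_dvd (by norm_num) h1; omega
      · exact n.nqp h1
    · have h1 := Nat.le_of_dvd Nat.card_pos (Subgroup.card_dvd_of_le hn)
      rw [hA2] at h1
      have h2 : A ≤ q + r + 1 := by rcases hA1 with hA1 | hA1 <;> omega
      omega
  · exfalso
    have hp23 : p = 2 ∨ p = 3 := by
      have := hp.two_le
      omega
    have h1 := h.card_sub_one n hxo hp23 hE (hn x.2)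
    rcases hp23 with rfl | rfl
    · have := (h.pow_two_le n hE).1
      have := Nat.le_of_dvd (by omega) h1
      omega
    · rw [ha] at h1
      have h2 := Nat.le_of_dvd ha0 ((n.iff a).1 h1)
      have h3 : 3 ^ a ∣ q ^ 3 * (q - 1) * (q ^ 3 + 1) := by
        rw [← ha, ← h.card]; exact Subgroup.card_subgroup_dvd_card _
      have h4 : Nat.Coprime (3 ^ a) (q - 1) := by
        apply Nat.Coprime.pow_left
        rw [Nat.prime_three.coprime_iff_not_dvd]
        have := n.q3
        omega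
      have h5 : Nat.Coprime (3 ^ a) (q ^ 3 + 1) := by
        apply Nat.Coprime.pow_left
        rw [Nat.prime_three.coprime_iff_not_dvd]
        intro h6
        have h7 : 3 ∣ q ^ 3 := n.q3.pow (by norm_num)
        omega
      have h6 := h4.dvd_of_dvd_mul_right (h5.dvd_of_dvd_mul_right h3)
      rw [h.hq, ← pow_mul] at h6
      have h7 := (Nat.pow_dvd_pow_iff_le_right (by norm_num)).1 h6
      omega

/-- **a proper subgroup whose order is divisible by `ρ`** -/
theorem card_le_of_rho (M : Subgroup R) (hM : M ≠ ⊤) (hρM : ρ ∣ Nat.card M) : Nat.card M ≤ 6 * (q + r + 1) := by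
  classical
  by_contra hbig
  apply hM
  have hf2 : Fact (Nat.Prime 2) := ⟨Nat.prime_two⟩
  have h19 := n.q19
  have h16 : ¬ 16 ∣ Nat.card R := by
    intro h1
    obtain ⟨S⟩ : Nonempty (Sylow 2 R) := inferInstance
    have h2 := (h.syl2 S).1
    rw [S.card_eq_multiplicity] at h2
    have h3 : 4 ≤ (Nat.card R).factorization 2 :=
      (Nat.prime_two.pow_dvd_iff_le_factorization Nat.card_pos.ne').1 (by norm_num; exact h1)
    have h4 : 2 ^ 4 ≤ 2 ^ (Nat.card R).factorization 2 := Nat.pow_le_pow_right (by norm_num) h3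
    omega
  have hnt : Nontrivial M := by
    rw [← Finite.one_lt_card_iff_nontrivial]
    have := Nat.le_of_dvd Nat.card_pos hρM
    omega
  obtain ⟨N, hN, hN1, hmin⟩ := Cfsg.Agent.Lib.SubnormalJoin.exists_minimal_normal M
  obtain ⟨T, k, hTN, hTs, hk, ⟨e⟩⟩ := Cfsg.Agent.Lib.MinNormal.exists_mulEquiv_pi N hN1 hmin
  by_cases hT : IsMulCommutative T
  · exfalso
    have hab : ∀ x ∈ N, ∀ y ∈ N, Commute x y := by
      intro x hx y hy
      have h1 : (⟨x, hx⟩ : N) * ⟨y, hy⟩ = ⟨y, hy⟩ * ⟨x, hx⟩ := by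
        apply e.injective
        rw [map_mul, map_mul]
        funext i
        exact hT.is_comm.comm _ _
      exact congrArg Subtype.val h1
    obtain ⟨p, hp, hpN, hexp⟩ := Cfsg.Agent.Lib.MinNormalNonabelian.abelian_structure N hN1 hmin hab
    refine hbig (elem_le h n M hρM hp (E := N.map M.subtype) (hpN.map _) ?_ ?_ ?_)
    · intro hb
      rw [Subgroup.map_eq_bot_iff_of_injective _ M.subtype_injective] at hb
      exact hN1 hb
    · rintro _ ⟨x, hx, rfl⟩
      rw [← map_pow, hexp x hx, map_one]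
    · have h1 := Subgroup.le_normalizer_map (H := N) M.subtype
      rw [Subgroup.normalizer_eq_top N, ← MonoidHom.range_eq_map, Subgroup.range_subtype] at h1
      exact h1
  · have hTns : ¬ Group.IsSolvable T := by
      intro h1
      have h2 := IsSimpleGroup.comm_iff_isSolvable (G := T) |>.2 h1
      exact hT ⟨⟨h2⟩⟩
    have h4T : 4 ∣ Nat.card T := by
      by_contra h4
      exact hTns (Cfsg.Agent.CpAut.SmallP.isSolvable_of_not_four_dvd h4)
    have hcN : Nat.card N = Nat.card T ^ k := by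
      rw [Nat.card_congr e.toEquiv, Nat.card_pi, Finset.prod_const, Finset.card_univ, Fintype.card_fin]
    have hNR : Nat.card N ∣ Nat.card R := (Subgroup.card_subgroup_dvd_card N).trans (Subgroup.card_subgroup_dvd_card M)
    have hk1 : k = 1 := by
      by_contra hk1
      apply h16
      refine dvd_trans ?_ hNR
      rw [hcN]
      calc 16 = 4 ^ 2 := by norm_num
        _ ∣ Nat.card T ^ 2 := pow_dvd_pow_of_dvd h4T 2
        _ ∣ Nat.card T ^ k := pow_dvd_pow _ (by omega)
    subst hk1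
    have e' : T ≃* N := ((MulEquiv.piUnique (fun _ : Fin 1 => T)).symm).trans e.symm
    have hNs : IsSimpleGroup N := e'.symm.isSimpleGroup
    have hNna : ¬ IsMulCommutative N := by
      intro h1
      apply hT
      refine ⟨⟨fun a b => ?_⟩⟩
      apply e'.injective
      rw [map_mul, map_mul]
      exact h1.is_comm.comm _ _
    have h4N : 4 ∣ Nat.card N := by rw [hcN, pow_one]; exact h4T
    have hρN := h.dvd_of_simple n M hρM N h4N
    have h5 := h.card_of_simple n (M.subtype.comp N.subtype) (M.subtype_injective.comp N.subtype_injective) hNs hNna hρN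
    have h6 : Nat.card N ≤ Nat.card M := Subgroup.card_le_card_group N
    exact Subgroup.eq_top_of_le_card M (h5.trans h6)

/-- no factorization up to a small factor `e` -/
theorem noTri_reeF (hI : ∀ M : Subgroup R, M ≠ ⊤ → q ^ 2 - q + 1 ≤ M.index) (hsz : 6 * (2 * m + 1) < q - r + 1)
    {X Y : Subgroup R} {e : ℕ} (hX : X ≠ ⊤) (hY : Y ≠ ⊤) (he : e ∣ 2 * m + 1)
    (hc : Nat.card X * Nat.card Y * e = Nat.card R) : False := by
  have hrho : ρ ∣ Nat.card R := by rw [h.card, n.cube]; exact (n.dvd.mul_left _).mul_left _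
  have he1 : e ≤ 2 * m + 1 := Nat.le_of_dvd (by omega) he
  have hge := n.ge
  have hpe : 0 < e := Nat.pos_of_dvd_of_pos he (by omega)
  have hρe : ¬ ρ ∣ e := by
    intro h1
    have := Nat.le_of_dvd hpe h1
    omega
  have key : ∀ A B : Subgroup R, A ≠ ⊤ → B ≠ ⊤ → Nat.card A * Nat.card B * e = Nat.card R → ρ ∣ Nat.card B → False := by
    intro A B hA hB hAB hρ
    have h1 := card_le_of_rho h n B hB hρ
    have h2 := hI A hA
    have h3 : A.index = Nat.card B * e := by
      have h4 := A.card_mul_index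
      rw [← hAB, mul_assoc] at h4
      exact Nat.eq_of_mul_eq_mul_left Nat.card_pos h4
    rw [h3, n.fac] at h2
    have h5 : Nat.card B * e ≤ 6 * (q + r + 1) * (2 * m + 1) := Nat.mul_le_mul h1 he1
    have h6 : (6 * (2 * m + 1)) * (q + r + 1) < (q - r + 1) * (q + r + 1) := Nat.mul_lt_mul_of_pos_right hsz (by omega)
    have h7 : 6 * (q + r + 1) * (2 * m + 1) = (6 * (2 * m + 1)) * (q + r + 1) := by ring
    omega
  rw [← hc, n.pr.dvd_mul, n.pr.dvd_mul] at hrho
  rcases hrho with (h1 | h1) | h1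
  · exact key Y X hY hX (by rw [mul_comm (Nat.card Y)]; exact hc) h1
  · exact key X Y hX hY hc h1
  · exact hρe h1

end

variable {K : Type*} [Field K] [Fintype K] {m : ℕ}

theorem three_pow_ge (h5 : 5 ≤ m) : 6 * (2 * m + 1) < 3 ^ m := by
  induction m, h5 using Nat.le_induction with
  | base => norm_num
  | succ k hk ih =>
    rw [pow_succ]
    omega

/-- **Ree** -/
theorem noTri_ree (h5 : 5 ≤ m) (hK : Fintype.card K = 3 ^ (2 * m + 1)) {X Y : Subgroup (Lie.twistedG2 K (3 ^ m))} {e : ℕ}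
    (h : Tri (Lie.twistedG2 K (3 ^ m)) X Y e) : False := by
  have hm : 1 ≤ m := by omega
  obtain ⟨ρ, n⟩ := exists_reeN m hm
  have F := reeF hm hK n
  have hs : IsSimpleGroup ↥(Cfsg.Lie.twistedG2 K (3 ^ m)) := (Cfsg.Agent.S1073.result hm hK).1
  have hfin : Finite ↥(Cfsg.Lie.twistedG2 K (3 ^ m)) := inferInstance
  have hna : ∃ x y : ↥(Cfsg.Lie.twistedG2 K (3 ^ m)), x * y ≠ y * x := by
    by_contra hcon
    push Not at hcon
    let i : CommGroup ↥(Cfsg.Lie.twistedG2 K (3 ^ m)) :=
      { (inferInstance : Group ↥(Cfsg.Lie.twistedG2 K (3 ^ m))) with mul_comm := hcon }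
    have h1 : (Nat.card ↥(Cfsg.Lie.twistedG2 K (3 ^ m))).Prime := @IsSimpleGroup.prime_card _ i hs
    rw [F.card] at h1
    have hq27 := n.q27
    have h2 := n.q3.trans (dvd_pow_self (3 ^ (2 * m + 1)) (by norm_num : 3 ≠ 0))
    have h3 := (Nat.prime_dvd_prime_iff_eq Nat.prime_three h1).1 ((h2.mul_right _).mul_right _)
    have h4 : 27 ≤ (3 ^ (2 * m + 1)) ^ 3 := hq27.trans (Nat.le_self_pow (by norm_num) _)
    have h5 : 1 ≤ (3 ^ (2 * m + 1) - 1) * ((3 ^ (2 * m + 1)) ^ 3 + 1) := Nat.mul_pos (by omega) (by omega)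
    rw [mul_assoc] at h3
    have h6 := Nat.mul_le_mul_left ((3 ^ (2 * m + 1)) ^ 3) h5
    omega
  have ho := h.out
  rw [Cfsg.Agent.S2127.result hm hK] at ho
  refine noTri_reeF F n ?_ ?_ h.left h.right ho h.card
  · intro M hM
    obtain ⟨k, σ, h1, h2, h3⟩ := Cfsg.Agent.H452.FprDeg.exists_irr hna hM
    exact (Cfsg.Agent.S2343.result m hm hK k σ h1 h2).trans h3
  · have h6 := three_pow_ge h5
    have h7 : (3 : ℕ) ^ (2 * m + 1) = 3 * (3 ^ m * 3 ^ m) := by rw [← pow_add, ← pow_succ']; congr 1; omega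
    have h8 : (3 : ℕ) ^ (m + 1) = 3 * 3 ^ m := by rw [pow_succ']
    rw [h7, h8]
    generalize 3 ^ m = z at *
    have h9 : 66 ≤ z := by omega
    have h10 : 66 * z ≤ z * z := Nat.mul_le_mul_right _ h9
    omega

end Cfsg.Agent.H420.Rg
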