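import Cfsg.Agent.H56.Exc.SzRow
import Cfsg.Agent.H420.Rg.Base
import Cfsg.Agent.S2126

/-!
# S3691: the Suzuki groups (helper420)

`noTri_sz` : no `Tri (Lie.Sz F (2 ^ (m + 1))) X Y e`, `m ≥ 10`.
-/

set_option autoImplicit false

namespace Cfsg.Agent.H420.Rg

open Cfsg Subgroup Cfsg.Agent.H761.SzCls Cfsg.Agent.H56.Exc

variable {F : Type*} [Field F] [Fintype F] {m : ℕ}

theorem two_mul_le {m : ℕ} (h : 10 ≤ m) : 16 * (2 * m + 1) ≤ 2 ^ m := by
  induction m, h using Nat.le_induction with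
  | base => norm_num
  | succ k hk ih =>
    rw [pow_succ]
    omega

theorem six_le {a : ℕ} (h : 5 ≤ a) : 6 * a ≤ 2 ^ a := by
  induction a, h using Nat.le_induction with
  | base => norm_num
  | succ k hk ih =>
    rw [pow_succ]
    omega

/-- the orders of the proper subgroups -/
theorem sz_card' (h10 : 10 ≤ m) (hF : Fintype.card F = 2 ^ (2 * m + 1)) (L : Subgroup (Cfsg.Sz F m)) (hL : L ≠ ⊤) :
    Nat.card L ∣ (2 ^ (2 * m + 1)) ^ 2 * (2 ^ (2 * m + 1) - 1) ∨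
      (2 * m + 1) * Nat.card L ≤ (2 ^ (2 * m + 1)) ^ 2 := by
  have hm : 1 ≤ m := by omega
  obtain ⟨h1, h2, h3, -, -⟩ := qt hm
  have h16 := two_mul_le h10
  have hqt : 2 ^ (2 * m + 1) = 2 * (2 ^ m * 2 ^ m) := by rw [← pow_add, ← pow_succ']; congr 1; omega
  have ht : 2 ^ (m + 1) = 2 * 2 ^ m := by rw [pow_succ']
  rcases S2251.result hm hF L hL with ⟨Q, hQ⟩ | ⟨V, hV, hVc, hKV⟩ | ⟨K, _, _, k, hk, hkm, hK, hdiv, S, ⟨e⟩, hKS⟩
  · left
    rw [← card_norm_sylow hm hF Q]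
    exact Subgroup.card_dvd_of_le hQ
  · right
    obtain ⟨j, hj⟩ := mem_set_iff.1 hVc
    have hV' : IsTor V j := ⟨hV, hj⟩
    have hfin := finite_Sz F m
    refine (Nat.mul_le_mul_left _ (Subgroup.card_le_of_le hKV)).trans ?_
    rw [card_norm hm hF hV']
    refine (Nat.mul_le_mul_left _ (Nat.mul_le_mul_right _ (cT_le j).1)).trans ?_
    have h4 : nT m j ≤ 2 ^ (2 * m + 1) + 2 ^ (m + 1) + 1 := by
      fin_cases j
      · show 2 ^ (2 * m + 1) - 1 ≤ _
        omega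
      · show 2 ^ (2 * m + 1) + 2 ^ (m + 1) + 1 ≤ _
        omega
      · show 2 ^ (2 * m + 1) - 2 ^ (m + 1) + 1 ≤ _
        omega
    have h5 : nT m j ≤ 2 * 2 ^ (2 * m + 1) := by
      refine h4.trans ?_
      rw [hqt, ht]
      generalize 2 ^ m = z at *
      nlinarith
    have h6 : (2 * m + 1) * (4 * nT m j) ≤ (2 * m + 1) * (4 * (2 * 2 ^ (2 * m + 1))) :=
      Nat.mul_le_mul_left _ (Nat.mul_le_mul_left _ h5)
    refine h6.trans ?_
    calc (2 * m + 1) * (4 * (2 * 2 ^ (2 * m + 1))) = (8 * (2 * m + 1)) * 2 ^ (2 * m + 1) := by ring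
      _ ≤ 2 ^ (2 * m + 1) * 2 ^ (2 * m + 1) := by
        refine Nat.mul_le_mul_right _ ?_
        rw [hqt]
        generalize 2 ^ m = z at *
        nlinarith
      _ = _ := by rw [pow_two]
  · right
    have hfin := finite_Sz F m
    refine (Nat.mul_le_mul_left _ (Subgroup.card_le_of_le hKS)).trans ?_
    rw [Nat.card_congr e.toEquiv, S0324.result hk hK]
    obtain ⟨-, -, -, h6⟩ := sub_arith hk hkm hdiv
    obtain ⟨l, hl⟩ := hdiv
    have hl4 : l = 3 ∨ 5 ≤ l := by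
      rcases Nat.lt_or_ge l 5 with h | h
      · interval_cases l <;> omega
      · exact Or.inr h
    set q := 2 ^ (2 * m + 1) with hq
    set s := 2 ^ (2 * k + 1) with hs
    have h7 : s ^ 2 * (s ^ 2 + 1) * (s - 1) ≤ 2 * s ^ 5 := by
      calc s ^ 2 * (s ^ 2 + 1) * (s - 1) ≤ s ^ 2 * (2 * s ^ 2) * s := by
            refine Nat.mul_le_mul (Nat.mul_le_mul_left _ ?_) (Nat.sub_le _ _)
            have : 1 ≤ s ^ 2 := Nat.one_le_pow _ _ (by omega)
            omega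
        _ = 2 * s ^ 5 := by ring
    refine (Nat.mul_le_mul_left _ h7).trans ?_
    have hql : q = s ^ l := by rw [hq, hl, pow_mul]
    rcases hl4 with rfl | hl5
    · have h8 : 2 * (2 * m + 1) ≤ s := by
        rw [hl, hs]
        have := six_le (a := 2 * k + 1) (by omega)
        omega
      calc (2 * m + 1) * (2 * s ^ 5) = (2 * (2 * m + 1)) * s ^ 5 := by ring
        _ ≤ s * s ^ 5 := Nat.mul_le_mul_right _ h8
        _ = q ^ 2 := by rw [hql]; ring
    · have h8 : s ^ 5 ≤ q := by rw [hql]; exact Nat.pow_le_pow_right (by omega) hl5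
      have h9 : 2 * (2 * m + 1) ≤ q := by
        rw [hqt]
        generalize 2 ^ m = z at *
        nlinarith
      calc (2 * m + 1) * (2 * s ^ 5) = (2 * (2 * m + 1)) * s ^ 5 := by ring
        _ ≤ q * q := Nat.mul_le_mul h9 h8
        _ = q ^ 2 := by rw [pow_two]

theorem noTri_sz' (h10 : 10 ≤ m) (hF : Fintype.card F = 2 ^ (2 * m + 1)) {X Y : Subgroup (Cfsg.Sz F m)} {e : ℕ}
    (hX : X ≠ ⊤) (hY : Y ≠ ⊤) (he : e ≤ 2 * m + 1)
    (hc : Nat.card X * Nat.card Y * e = Nat.card (Cfsg.Sz F m)) : False := by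
  have hm : 1 ≤ m := by omega
  have hfin := finite_Sz F m
  have h16 := two_mul_le h10
  have hqt : 2 ^ (2 * m + 1) = 2 * (2 ^ m * 2 ^ m) := by rw [← pow_add, ← pow_succ']; congr 1; omega
  have hbq : 2 * m + 1 < 2 ^ (2 * m + 1) := by
    rw [hqt]
    generalize 2 ^ m = z at *
    nlinarith
  rw [S0324.result hm hF] at hc
  have hXc := sz_card' h10 hF X hX
  have hYc := sz_card' h10 hF Y hY
  have hXp : 0 < Nat.card X := Nat.card_pos
  have hYp : 0 < Nat.card Y := Nat.card_pos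
  generalize 2 ^ (2 * m + 1) = q at *
  generalize Nat.card X = a at *
  generalize Nat.card Y = b at *
  have hq22 : 22 ≤ q := by omega
  have hpos : 0 < q ^ 2 * (q - 1) := Nat.mul_pos (by positivity) (by omega)
  have hepos : 0 < e := by
    rcases Nat.eq_zero_or_pos e with rfl | h
    · rw [mul_zero] at hc
      have : 0 < q ^ 2 * (q ^ 2 + 1) * (q - 1) := Nat.mul_pos (by positivity) (by omega)
      omega
    · exact h
  have hbig : ∀ a b : ℕ, (2 * m + 1) * a ≤ q ^ 2 → b ≤ q ^ 2 * (q - 1) →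
      a * b * e = q ^ 2 * (q ^ 2 + 1) * (q - 1) → False := by
    intro a b ha hb hab
    have h1 : a * b * e ≤ q ^ 2 * (q ^ 2 * (q - 1)) := by
      calc a * b * e ≤ a * b * (2 * m + 1) := Nat.mul_le_mul_left _ he
        _ = ((2 * m + 1) * a) * b := by ring
        _ ≤ _ := Nat.mul_le_mul ha hb
    rw [hab] at h1
    have h2 : q ^ 2 * (q ^ 2 * (q - 1)) + q ^ 2 * (q - 1) = q ^ 2 * (q ^ 2 + 1) * (q - 1) := by ring
    omega
  have hsm : ∀ b : ℕ, (2 * m + 1) * b ≤ q ^ 2 → b ≤ q ^ 2 * (q - 1) := by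
    intro b hb
    have h1 : b ≤ (2 * m + 1) * b := Nat.le_mul_of_pos_left _ (by omega)
    have h2 : q ^ 2 ≤ q ^ 2 * (q - 1) := Nat.le_mul_of_pos_right _ (by omega)
    omega
  rcases hXc with h4 | h4 <;> rcases hYc with h5 | h5
  · have h7 : q ^ 2 * (q ^ 2 + 1) * (q - 1) ∣ (q ^ 2 * (q - 1)) * (q ^ 2 * (q - 1)) * e := by
      rw [← hc]; exact mul_dvd_mul (mul_dvd_mul h4 h5) dvd_rfl
    have h8 : q ^ 2 + 1 ∣ q ^ 2 * (q - 1) * e := by
      have h9 : (q ^ 2 * (q - 1)) * (q ^ 2 + 1) ∣ (q ^ 2 * (q - 1)) * (q ^ 2 * (q - 1) * e) := by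
        have e1 : (q ^ 2 * (q - 1)) * (q ^ 2 + 1) = q ^ 2 * (q ^ 2 + 1) * (q - 1) := by ring
        have e2 : (q ^ 2 * (q - 1)) * (q ^ 2 * (q - 1) * e) = (q ^ 2 * (q - 1)) * (q ^ 2 * (q - 1)) * e := by ring
        rw [e1, e2]
        exact h7
      exact Nat.dvd_of_mul_dvd_mul_left hpos h9
    have hc2 : Nat.Coprime (q ^ 2 + 1) (q ^ 2) := by
      rw [Nat.coprime_self_add_left]; exact Nat.coprime_one_left _
    have h9 : q ^ 2 + 1 ∣ (q - 1) * e := by
      rw [mul_assoc] at h8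
      exact hc2.dvd_of_dvd_mul_left h8
    have h10' := Nat.le_of_dvd (Nat.mul_pos (by omega) hepos) h9
    have h11 : (q - 1) * e ≤ q * q := Nat.mul_le_mul (by omega) (by omega)
    rw [pow_two] at h10'
    omega
  · exact hbig b a h5 (Nat.le_of_dvd hpos h4) (by rw [mul_comm b a]; exact hc)
  · exact hbig a b h4 (Nat.le_of_dvd hpos h5) hc
  · exact hbig a b h4 (hsm b h5) hc

/-- **Sz** -/
theorem noTri_sz (h10 : 10 ≤ m) (hF : Fintype.card F = 2 ^ (2 * m + 1)) {X Y : Subgroup (Lie.Sz F (2 ^ (m + 1)))} {e : ℕ}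
    (h : Tri (Lie.Sz F (2 ^ (m + 1))) X Y e) : False := by
  have hm : 1 ≤ m := by omega
  obtain ⟨f⟩ := Cfsg.Agent.OddCyclic.ClaimC.SzIso.iso hm hF
  have hfin := finite_Sz F m
  have hfin' : Finite (Lie.Sz F (2 ^ (m + 1))) := Finite.of_equiv _ f.toEquiv
  have hc : ∀ X : Subgroup (Lie.Sz F (2 ^ (m + 1))), Nat.card (X.map f.symm.toMonoidHom) = Nat.card X := fun X =>
    card_map_of_injective f.symm.injective
  have ht : ∀ X : Subgroup (Lie.Sz F (2 ^ (m + 1))), X.map f.symm.toMonoidHom = ⊤ → X = ⊤ := by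
    intro X hX
    rw [← card_eq_iff_eq_top] at hX ⊢
    rw [← hc, hX]
    exact (Nat.card_congr f.toEquiv)
  have h1 := h.out
  rw [Cfsg.Agent.S2126.result hm hF] at h1
  refine noTri_sz' h10 hF (X := X.map f.symm.toMonoidHom) (Y := Y.map f.symm.toMonoidHom) (e := e)
    (fun hx => h.left (ht _ hx)) (fun hy => h.right (ht _ hy)) (Nat.le_of_dvd (by omega) h1) ?_
  rw [hc, hc, h.card]
  exact (Nat.card_congr f.toEquiv).symm

end Cfsg.Agent.H420.Rg
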