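import Cfsg.Agent.H436.Names

/-!
# S3691, `G₂(q)`: the two lists of groups of Lie type in characteristic `p`, and sizes (helper420)

* `L3 p f g` : the groups with `Mg = 3 f` whose order may divide `|G₂(p ^ f)|`;
* `L6 p f g` : the groups with `Mg = 6 f`;
* `pair_false` : a group of the second list and a group of the first list with the `p`-part `q³` are too large together.
-/

set_option autoImplicit false

namespace Cfsg.Agent.H420.Rg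

open Cfsg.Agent.OrdDiv Cfsg.Agent.H436

variable {p f : ℕ} {g : Grp}

/-- the groups with `Mg = 3 f`, `p`-part `q ^ (3 / 2)` -/
def L3a (p f : ℕ) (g : Grp) : Prop :=
  (∃ h, f = 2 * h ∧ (g = .psl 2 (p ^ (3 * h)) ∨ g = .psu 3 (p ^ h) ∨ g = .ree (p ^ h))) ∨
  (∃ h, f = 4 * h ∧ g = .sz (p ^ (3 * h)))

/-- the groups with `Mg = 3 f`, `p`-part `q ^ 3` -/
def L3b (p f : ℕ) (g : Grp) : Prop :=
  g = .psl 3 (p ^ f) ∨ (∃ h, f = 2 * h ∧ (g = .psu 4 (p ^ h) ∨ g = .g2 (p ^ h))) ∨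
  (∃ h, f = 4 * h ∧ g = .tf4 (p ^ h))

/-- the groups with `Mg = 6 f` -/
def L6 (p f : ℕ) (g : Grp) : Prop :=
  g = .g2 (p ^ f) ∨ g = .psl 2 (p ^ (3 * f)) ∨ g = .psu 3 (p ^ f) ∨ (p = 3 ∧ g = .ree (p ^ f)) ∨
  (p = 2 ∧ ∃ h, f = 2 * h ∧ (g = .tf4 (p ^ h) ∨ g = .sz (p ^ (3 * h))))

/-- the groups of `L6` with `p`-part `q ^ 3` and order prime to the class 3 -/
def L6b (p f : ℕ) (g : Grp) : Prop :=
  g = .psu 3 (p ^ f) ∨ (p = 3 ∧ g = .ree (p ^ f)) ∨ (p = 2 ∧ ∃ h, f = 2 * h ∧ g = .sz (p ^ (3 * h)))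

theorem half {a n : ℕ} (ha : 2 ≤ a) (hn : 1 ≤ n) : a ^ n ≤ 2 * (a ^ n - 1) := by
  have : 2 ≤ a ^ n := ha.trans (Nat.le_self_pow (by omega) _)
  omega

/-- a product of four factors with bounds -/
theorem lb_psu3 {q c : ℕ} (hq : 2 ≤ q) (hc : den (.psu 3 q) * c = num (.psu 3 q)) : q ^ 8 ≤ 6 * c := by
  have h1 : Nat.gcd 3 (q + 1) * (q + 1) * c = q ^ 3 * ((q ^ 1 + 1) * ((q ^ 2 - 1) * ((q ^ 3 + 1) * 1))) := hc
  rw [pow_one] at h1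
  have hg : Nat.gcd 3 (q + 1) ≤ 3 := Nat.gcd_le_left _ (by norm_num)
  have h2 : Nat.gcd 3 (q + 1) * c = q ^ 3 * ((q ^ 2 - 1) * (q ^ 3 + 1)) := by
    apply Nat.eq_of_mul_eq_mul_left (show 0 < q + 1 by omega)
    calc (q + 1) * (Nat.gcd 3 (q + 1) * c) = Nat.gcd 3 (q + 1) * (q + 1) * c := by ring
      _ = _ := h1
      _ = _ := by ring
  have h3 : Nat.gcd 3 (q + 1) * c ≤ 3 * c := Nat.mul_le_mul_right _ hg
  have h4 := half hq (show 1 ≤ 2 by norm_num)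
  have h5 : q ^ 2 * q ^ 3 ≤ 2 * (q ^ 2 - 1) * (q ^ 3 + 1) := Nat.mul_le_mul h4 (by omega)
  calc q ^ 8 = q ^ 3 * (q ^ 2 * q ^ 3) := by ring
    _ ≤ q ^ 3 * (2 * (q ^ 2 - 1) * (q ^ 3 + 1)) := Nat.mul_le_mul_left _ h5
    _ = 2 * (q ^ 3 * ((q ^ 2 - 1) * (q ^ 3 + 1))) := by ring
    _ = 2 * (Nat.gcd 3 (q + 1) * c) := by rw [h2]
    _ ≤ 6 * c := by omega

theorem lb_psl3 {q c : ℕ} (hq : 2 ≤ q) (hc : den (.psl 3 q) * c = num (.psl 3 q)) : q ^ 8 ≤ 12 * c := by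
  have h1 : Nat.gcd 3 (q - 1) * (q - 1) * c = (q ^ 3 - q ^ 0) * ((q ^ 3 - q ^ 1) * ((q ^ 3 - q ^ 2) * 1)) := hc
  have hg : Nat.gcd 3 (q - 1) ≤ 3 := Nat.gcd_le_left _ (by norm_num)
  obtain ⟨x, rfl⟩ : ∃ x, q = x + 1 := ⟨q - 1, by omega⟩
  have e0 : (x + 1) ^ 3 - (x + 1) ^ 0 = (x + 1) ^ 3 - 1 := by rw [pow_zero]
  have e1 : (x + 1) ^ 3 - (x + 1) ^ 1 = (x + 1) * ((x + 1) ^ 2 - 1) := by
    rw [Nat.mul_sub, ← pow_succ', mul_one, pow_one]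
  have e2 : (x + 1) ^ 3 - (x + 1) ^ 2 = (x + 1) ^ 2 * x := by
    apply Nat.sub_eq_of_eq_add; ring
  rw [e0, e1, e2, Nat.add_sub_cancel] at h1
  have hx : 0 < x := by omega
  have h2 : Nat.gcd 3 x * c = (x + 1) ^ 3 * (((x + 1) ^ 2 - 1) * ((x + 1) ^ 3 - 1)) := by
    apply Nat.eq_of_mul_eq_mul_left hx
    calc x * (Nat.gcd 3 x * c) = Nat.gcd 3 x * x * c := by ring
      _ = _ := h1
      _ = _ := by ring
  have h3 : Nat.gcd 3 x * c ≤ 3 * c := Nat.mul_le_mul_right _ (by simpa using hg)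
  have h4 := half hq (show 1 ≤ 2 by norm_num)
  have h4' := half hq (show 1 ≤ 3 by norm_num)
  have h5 : (x + 1) ^ 2 * (x + 1) ^ 3 ≤ 2 * ((x + 1) ^ 2 - 1) * (2 * ((x + 1) ^ 3 - 1)) := Nat.mul_le_mul h4 h4'
  calc (x + 1) ^ 8 = (x + 1) ^ 3 * ((x + 1) ^ 2 * (x + 1) ^ 3) := by ring
    _ ≤ (x + 1) ^ 3 * (2 * ((x + 1) ^ 2 - 1) * (2 * ((x + 1) ^ 3 - 1))) := Nat.mul_le_mul_left _ h5
    _ = 4 * ((x + 1) ^ 3 * (((x + 1) ^ 2 - 1) * ((x + 1) ^ 3 - 1))) := by ring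
    _ = 4 * (Nat.gcd 3 x * c) := by rw [h2]
    _ ≤ 12 * c := by omega

theorem lb_psu4 {q c : ℕ} (hq : 2 ≤ q) (hc : den (.psu 4 q) * c = num (.psu 4 q)) : q ^ 15 ≤ 16 * c := by
  have h1 : Nat.gcd 4 (q + 1) * (q + 1) * c = q ^ 6 * ((q ^ 1 + 1) * ((q ^ 2 - 1) * ((q ^ 3 + 1) * ((q ^ 4 - 1) * 1)))) := hc
  rw [pow_one] at h1
  have hg : Nat.gcd 4 (q + 1) ≤ 4 := Nat.gcd_le_left _ (by norm_num)
  have h2 : Nat.gcd 4 (q + 1) * c = q ^ 6 * ((q ^ 2 - 1) * ((q ^ 3 + 1) * (q ^ 4 - 1))) := by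
    apply Nat.eq_of_mul_eq_mul_left (show 0 < q + 1 by omega)
    calc (q + 1) * (Nat.gcd 4 (q + 1) * c) = Nat.gcd 4 (q + 1) * (q + 1) * c := by ring
      _ = _ := h1
      _ = _ := by ring
  have h3 : Nat.gcd 4 (q + 1) * c ≤ 4 * c := Nat.mul_le_mul_right _ hg
  have h4 := half hq (show 1 ≤ 2 by norm_num)
  have h4' := half hq (show 1 ≤ 4 by norm_num)
  have h5 : q ^ 2 * (q ^ 3 * q ^ 4) ≤ 2 * (q ^ 2 - 1) * ((q ^ 3 + 1) * (2 * (q ^ 4 - 1))) :=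
    Nat.mul_le_mul h4 (Nat.mul_le_mul (by omega) h4')
  calc q ^ 15 = q ^ 6 * (q ^ 2 * (q ^ 3 * q ^ 4)) := by ring
    _ ≤ q ^ 6 * (2 * (q ^ 2 - 1) * ((q ^ 3 + 1) * (2 * (q ^ 4 - 1)))) := Nat.mul_le_mul_left _ h5
    _ = 4 * (q ^ 6 * ((q ^ 2 - 1) * ((q ^ 3 + 1) * (q ^ 4 - 1)))) := by ring
    _ = 4 * (Nat.gcd 4 (q + 1) * c) := by rw [h2]
    _ ≤ 16 * c := by omega

theorem lb_g2 {q c : ℕ} (hq : 2 ≤ q) (hc : den (.g2 q) * c = num (.g2 q)) : q ^ 14 ≤ 4 * c := by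
  have h1 : 1 * c = q ^ 6 * ((q ^ 2 - 1) * (q ^ 6 - 1)) := hc
  have h4 := half hq (show 1 ≤ 2 by norm_num)
  have h4' := half hq (show 1 ≤ 6 by norm_num)
  have h5 : q ^ 2 * q ^ 6 ≤ 2 * (q ^ 2 - 1) * (2 * (q ^ 6 - 1)) := Nat.mul_le_mul h4 h4'
  calc q ^ 14 = q ^ 6 * (q ^ 2 * q ^ 6) := by ring
    _ ≤ q ^ 6 * (2 * (q ^ 2 - 1) * (2 * (q ^ 6 - 1))) := Nat.mul_le_mul_left _ h5
    _ = 4 * (q ^ 6 * ((q ^ 2 - 1) * (q ^ 6 - 1))) := by ring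
    _ = 4 * (1 * c) := by rw [h1]
    _ ≤ 4 * c := by omega

theorem lb_tf4 {q c : ℕ} (hq : 2 ≤ q) (hc : den (.tf4 q) * c = num (.tf4 q)) : q ^ 26 ≤ 4 * c := by
  have h1 : 1 * c = q ^ 12 * ((q - 1) * (q ^ 3 + 1) * (q ^ 4 - 1) * (q ^ 6 + 1)) := hc
  have h4 : q ≤ 2 * (q - 1) := by omega
  have h4' := half hq (show 1 ≤ 4 by norm_num)
  have h5 : q * (q ^ 3 * (q ^ 4 * q ^ 6)) ≤ 2 * (q - 1) * ((q ^ 3 + 1) * (2 * (q ^ 4 - 1) * (q ^ 6 + 1))) :=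
    Nat.mul_le_mul h4 (Nat.mul_le_mul (by omega) (Nat.mul_le_mul h4' (by omega)))
  calc q ^ 26 = q ^ 12 * (q * (q ^ 3 * (q ^ 4 * q ^ 6))) := by ring
    _ ≤ q ^ 12 * (2 * (q - 1) * ((q ^ 3 + 1) * (2 * (q ^ 4 - 1) * (q ^ 6 + 1)))) := Nat.mul_le_mul_left _ h5
    _ = 4 * (q ^ 12 * ((q - 1) * (q ^ 3 + 1) * (q ^ 4 - 1) * (q ^ 6 + 1))) := by ring
    _ = 4 * (1 * c) := by rw [h1]
    _ ≤ 4 * c := by omega

theorem lb_sz {q c : ℕ} (hq : 2 ≤ q) (hc : den (.sz q) * c = num (.sz q)) : q ^ 5 ≤ 2 * c := by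
  have h1 : 1 * c = q ^ 2 * ((q - 1) * (q ^ 2 + 1)) := hc
  have h4 : q ≤ 2 * (q - 1) := by omega
  have h5 : q * q ^ 2 ≤ 2 * (q - 1) * (q ^ 2 + 1) := Nat.mul_le_mul h4 (by omega)
  calc q ^ 5 = q ^ 2 * (q * q ^ 2) := by ring
    _ ≤ q ^ 2 * (2 * (q - 1) * (q ^ 2 + 1)) := Nat.mul_le_mul_left _ h5
    _ = 2 * (q ^ 2 * ((q - 1) * (q ^ 2 + 1))) := by ring
    _ = 2 * (1 * c) := by rw [h1]
    _ ≤ 2 * c := by omega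

theorem lb_ree {q c : ℕ} (hq : 2 ≤ q) (hc : den (.ree q) * c = num (.ree q)) : q ^ 7 ≤ 2 * c := by
  have h1 : 1 * c = q ^ 3 * ((q - 1) * (q ^ 3 + 1)) := hc
  have h4 : q ≤ 2 * (q - 1) := by omega
  have h5 : q * q ^ 3 ≤ 2 * (q - 1) * (q ^ 3 + 1) := Nat.mul_le_mul h4 (by omega)
  calc q ^ 7 = q ^ 3 * (q * q ^ 3) := by ring
    _ ≤ q ^ 3 * (2 * (q - 1) * (q ^ 3 + 1)) := Nat.mul_le_mul_left _ h5
    _ = 2 * (q ^ 3 * ((q - 1) * (q ^ 3 + 1))) := by ring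
    _ = 2 * (1 * c) := by rw [h1]
    _ ≤ 2 * c := by omega

/-- the comparison -/
theorem cmp {q a b A B K : ℕ} (hq : 0 < q) (hab : a * b < q ^ 14) {i j : ℕ} (hA : q ^ i ≤ (A * a) ^ 2) (hB : q ^ j ≤ (B * b) ^ 2)
    (hij : 28 ≤ i + j) (hK : (A * B) ^ 2 ≤ q ^ (i + j - 28)) (hAB : A * B = K) (hK0 : 0 < K) : False := by
  have h1 : q ^ i * q ^ j ≤ (A * a) ^ 2 * (B * b) ^ 2 := Nat.mul_le_mul hA hB
  have h2 : (A * a) ^ 2 * (B * b) ^ 2 = (A * B) ^ 2 * (a * b) ^ 2 := by ring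
  have h3 : (a * b) ^ 2 < (q ^ 14) ^ 2 := Nat.pow_lt_pow_left hab (by norm_num)
  have h4 : (A * B) ^ 2 * (a * b) ^ 2 < (A * B) ^ 2 * (q ^ 14) ^ 2 := by
    refine Nat.mul_lt_mul_of_pos_left h3 ?_
    rw [hAB]
    positivity
  have h5 : (A * B) ^ 2 * (q ^ 14) ^ 2 ≤ q ^ (i + j - 28) * (q ^ 14) ^ 2 := Nat.mul_le_mul_right _ hK
  have h6 : q ^ (i + j - 28) * (q ^ 14) ^ 2 = q ^ i * q ^ j := by
    rw [← pow_mul, ← pow_add, ← pow_add]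
    congr 1
    omega
  omega

theorem pair_false {g₁ : Grp} {c c₁ : ℕ} (hp : p.Prime) (hf : 1 ≤ f) (h175 : 175 < p ^ f) (hg : Cond g) (hg₁ : Cond g₁)
    (h6 : L6b p f g) (h3 : L3b p f g₁) (hc : den g * c = num g) (hc₁ : den g₁ * c₁ = num g₁)
    (hle : c * c₁ ≤ (p ^ f) ^ 6 * (((p ^ f) ^ 2 - 1) * ((p ^ f) ^ 6 - 1))) : False := by
  have hq0 : 0 < p ^ f := by omega
  have hlt : c * c₁ < (p ^ f) ^ 14 := by
    refine hle.trans_lt ?_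
    have h1 : (p ^ f) ^ 2 - 1 < (p ^ f) ^ 2 := Nat.sub_lt (by positivity) (by norm_num)
    have h2 : (p ^ f) ^ 6 - 1 ≤ (p ^ f) ^ 6 := Nat.sub_le _ _
    calc (p ^ f) ^ 6 * (((p ^ f) ^ 2 - 1) * ((p ^ f) ^ 6 - 1)) < (p ^ f) ^ 6 * ((p ^ f) ^ 2 * (p ^ f) ^ 6) := by
          refine Nat.mul_lt_mul_of_pos_left ?_ (by positivity)
          exact Nat.mul_lt_mul_of_lt_of_le h1 h2 (by positivity)
      _ = (p ^ f) ^ 14 := by ring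
  -- bounds of the second group
  have h2p := hp.two_le
  have hpw : ∀ h, 1 ≤ h → 2 ≤ p ^ h := fun h h1 => h2p.trans (Nat.le_self_pow (by omega) _)
  have hB : (g₁ = .psl 3 (p ^ f) ∧ (p ^ f) ^ 16 ≤ (12 * c₁) ^ 2) ∨
      ((∃ h, f = 2 * h) ∧ (p ^ f) ^ 14 ≤ (4 * c₁) ^ 2) ∨ ((∃ h, f = 2 * h) ∧ (p ^ f) ^ 15 ≤ (16 * c₁) ^ 2) ∨
      ((∃ h, f = 4 * h) ∧ p = 2 ∧ 4096 ≤ p ^ f ∧ (p ^ f) ^ 13 ≤ (4 * c₁) ^ 2) := by
    rcases h3 with rfl | ⟨h, rfl, rfl | rfl⟩ | ⟨h, rfl, rfl⟩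
    · refine Or.inl ⟨rfl, ?_⟩
      have := lb_psl3 (hpw f hf) hc₁
      calc (p ^ f) ^ 16 = ((p ^ f) ^ 8) ^ 2 := by ring
        _ ≤ _ := Nat.pow_le_pow_left this 2
    · refine Or.inr (Or.inr (Or.inl ⟨⟨h, rfl⟩, ?_⟩))
      have := lb_psu4 (hpw h (by omega)) hc₁
      calc (p ^ (2 * h)) ^ 15 = ((p ^ h) ^ 15) ^ 2 := by rw [← pow_mul, ← pow_mul, ← pow_mul]; congr 1; ring
        _ ≤ _ := Nat.pow_le_pow_left this 2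
    · refine Or.inr (Or.inl ⟨⟨h, rfl⟩, ?_⟩)
      have := lb_g2 (hpw h (by omega)) hc₁
      calc (p ^ (2 * h)) ^ 14 = ((p ^ h) ^ 14) ^ 2 := by rw [← pow_mul, ← pow_mul, ← pow_mul]; congr 1; ring
        _ ≤ _ := Nat.pow_le_pow_left this 2
    · refine Or.inr (Or.inr (Or.inr ⟨⟨h, rfl⟩, ?_⟩))
      obtain ⟨m, hm, hqm⟩ : ∃ m, 1 ≤ m ∧ p ^ h = 2 ^ (2 * m + 1) := hg₁
      have hp2 : p = 2 := by
        have h4 : p ∣ 2 ^ (2 * m + 1) := by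
          rw [← hqm]
          exact dvd_pow_self p (by omega)
        exact (Nat.prime_dvd_prime_iff_eq hp Nat.prime_two).1 (hp.dvd_of_dvd_pow h4)
      refine ⟨hp2, ?_, ?_⟩
      · have h8 : 8 ≤ p ^ h := by
          rw [hqm]
          calc 8 = 2 ^ 3 := by norm_num
            _ ≤ 2 ^ (2 * m + 1) := Nat.pow_le_pow_right (by norm_num) (by omega)
        calc 4096 = 8 ^ 4 := by norm_num
          _ ≤ (p ^ h) ^ 4 := Nat.pow_le_pow_left h8 4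
          _ = p ^ (4 * h) := by rw [← pow_mul]; congr 1; ring
      · have := lb_tf4 (hpw h (by omega)) hc₁
        calc (p ^ (4 * h)) ^ 13 = ((p ^ h) ^ 26) ^ 2 := by rw [← pow_mul, ← pow_mul, ← pow_mul]; congr 1; ring
          _ ≤ _ := Nat.pow_le_pow_left this 2
  have pw1 : ∀ n, 1 ≤ n → p ^ f ≤ (p ^ f) ^ n := fun n hn => Nat.le_self_pow (by omega) _
  have pw2 : 176 ^ 2 ≤ (p ^ f) ^ 2 := Nat.pow_le_pow_left (by omega) 2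
  have pw3 : 176 ^ 3 ≤ (p ^ f) ^ 3 := Nat.pow_le_pow_left (by omega) 3
  have pw4 : 176 ^ 4 ≤ (p ^ f) ^ 4 := Nat.pow_le_pow_left (by omega) 4
  rcases h6 with rfl | ⟨hp3, rfl⟩ | ⟨hp2, h, rfl, rfl⟩
  · have hA : (p ^ f) ^ 16 ≤ (6 * c) ^ 2 := by
      have := lb_psu3 (hpw f hf) hc
      calc (p ^ f) ^ 16 = ((p ^ f) ^ 8) ^ 2 := by ring
        _ ≤ _ := Nat.pow_le_pow_left this 2
    rcases hB with ⟨-, hB⟩ | ⟨-, hB⟩ | ⟨-, hB⟩ | ⟨-, -, h4, hB⟩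
    · exact cmp hq0 hlt hA hB (by norm_num) (by norm_num; omega) rfl (by norm_num)
    · exact cmp hq0 hlt hA hB (by norm_num) (by norm_num; omega) rfl (by norm_num)
    · exact cmp hq0 hlt hA hB (by norm_num) (by norm_num; omega) rfl (by norm_num)
    · exact cmp hq0 hlt hA hB (by norm_num) (by norm_num; omega) rfl (by norm_num)
  · have hA : (p ^ f) ^ 14 ≤ (2 * c) ^ 2 := by
      have := lb_ree (hpw f hf) hc
      calc (p ^ f) ^ 14 = ((p ^ f) ^ 7) ^ 2 := by ring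
        _ ≤ _ := Nat.pow_le_pow_left this 2
    have hodd : f % 2 = 1 := by
      obtain ⟨m, hm, hqm⟩ : ∃ m, 1 ≤ m ∧ p ^ f = 3 ^ (2 * m + 1) := hg
      rw [hp3] at hqm
      have := Nat.pow_right_injective (by norm_num : 2 ≤ 3) hqm
      omega
    rcases hB with ⟨-, hB⟩ | ⟨⟨h, rfl⟩, hB⟩ | ⟨⟨h, rfl⟩, hB⟩ | ⟨⟨h, rfl⟩, -, h4, hB⟩
    · exact cmp hq0 hlt hA hB (by norm_num) (by norm_num; omega) rfl (by norm_num)
    · omega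
    · omega
    · omega
  · have hA : (p ^ (2 * h)) ^ 15 ≤ (2 * c) ^ 2 := by
      have := lb_sz (hpw (3 * h) (by omega)) hc
      calc (p ^ (2 * h)) ^ 15 = ((p ^ (3 * h)) ^ 5) ^ 2 := by rw [← pow_mul, ← pow_mul, ← pow_mul]; congr 1; ring
        _ ≤ _ := Nat.pow_le_pow_left this 2
    have hodd : h % 2 = 1 := by
      obtain ⟨m, hm, hqm⟩ : ∃ m, 1 ≤ m ∧ p ^ (3 * h) = 2 ^ (2 * m + 1) := hg
      rw [hp2] at hqm
      have h9 : 3 * h = 2 * m + 1 := Nat.pow_right_injective (le_refl 2) hqm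
      omega
    rcases hB with ⟨-, hB⟩ | ⟨-, hB⟩ | ⟨-, hB⟩ | ⟨⟨h', h''⟩, -, h4, hB⟩
    · exact cmp hq0 hlt hA hB (by norm_num) (by norm_num; omega) rfl (by norm_num)
    · exact cmp hq0 hlt hA hB (by norm_num) (by norm_num; omega) rfl (by norm_num)
    · exact cmp hq0 hlt hA hB (by norm_num) (by norm_num; omega) rfl (by norm_num)
    · omega

end Cfsg.Agent.H420.Rg
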