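import Cfsg.Agent.H983.ElG.KLem
import Cfsg.Agent.H983.ElG.KNum
import Cfsg.Agent.H563.KG.Wt
import Cfsg.Agent.H56.Exc.Fac
import Cfsg.Agent.H325.Same.BigChar
import Cfsg.Agent.H325.Same.KillPSL
import Cfsg.Agent.H290.ElRich
import Cfsg.Agent.H264.FKS.Res
import Cfsg.Agent.H290.ElReg
import Cfsg.Agent.H394.Wei.CharG2

/-!
# Subgroups of `G₂(q)`, `q = p ^ f`, containing one primitive prime of each of the classes 3 and 6 (helper420)

`gg` : `T ≅ G₂(p ^ f)`, `M ≤ T`, `r₃` a primitive prime of `p ^ (3 f) - 1`, `r₆` one of `p ^ (6 f) - 1`, both dividing `|M|`;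
`f ≥ 3`, or `f = 2`, `p ≥ 17` and `p⁴ - p² + 1` divides `|M|`: then `M = T`.
-/

set_option autoImplicit false

namespace Cfsg.Agent.H420.GG

open Cfsg Cfsg.Lie Cfsg.Agent.OrdDiv Cfsg.Agent.H436 Cfsg.Agent.H902 Cfsg.Agent.H902.Names Cfsg.Agent.H915.GN
  Cfsg.Agent.H290.ElReg Cfsg.Agent.H264.FKS Cfsg.Agent.H264.GN Cfsg.Agent.H563.KG Cfsg.Agent.H56.Exc Cfsg.Agent.H325.Same
open Cfsg.Agent.H946.Num Cfsg.Agent.H946.Rad Cfsg.Agent.H290.ElTab Cfsg.Agent.H290.ElCross
open Cfsg.Agent.H983.KG2 (De_ne_zero bnd14_true bndSp_true modEq_fix red_of' N36)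

variable {p f : ℕ}

theorem charP_of_card {F : Type*} [Field F] [Fintype F] (hp : p.Prime) {k : ℕ} (h : Fintype.card F = p ^ k) :
    CharP F p := by
  have : Fact p.Prime := ⟨hp⟩
  exact charP_of_card_eq_prime_pow h

theorem kill_psl2 {S : Type*} [Group S] {r : ℕ} (hp : p.Prime) (hS : IsNamed (.psl 2 (p ^ (3 * f))) S)
    (hr : Prim (p ^ f) 3 r) (hP : H325.Loc.PIso p r S) : False := by
  have : Fact p.Prime := ⟨hp⟩
  obtain ⟨F, _, _, hF, ⟨e⟩⟩ := hS.real
  have := charP_of_card hp hF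
  refine not_piso_psl2 (K := F) (p := p) hr.prime (fun h => hr.not_dvd_two le_rfl (by rw [h])) ?_ (hP.congr e)
  rw [Nat.card_eq_fintype_card, hF, mul_comm, pow_mul]
  exact hr.dvd dvd_rfl

/-- the order and the tori -/
structure Dt (T : Type) [Group T] [Finite T] (p f : ℕ) : Prop where
  hp : p.Prime
  hf : 1 ≤ f
  h3q : 3 ≤ p ^ f
  card : Nat.card T = OL .G2 (p ^ f)
  b3 : ∀ r, Prim (p ^ f) 3 r → Big T r (N3 (p ^ f)) 6
  b6 : ∀ r, Prim (p ^ f) 6 r → Big T r (N6 (p ^ f)) 6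
  fth : ∃ (F : Type) (_ : Field F) (_ : CharP F p), Fth 14 F T
  iso : ∀ r, Prim (p ^ f) 3 r → H325.Loc.PIso p r T
  par : ParP p T

theorem big_free {G : Type*} [Group G] [Finite G] {r m e t : ℕ} (h : Big G r m e) (ht : t.Prime) (htm : ¬ t ∣ m) {x a : G}
    (hx : orderOf x = r) (hat : a ^ t = 1) (hc : x * a = a * x) : a = 1 := by
  have h1 : a ∈ Subgroup.centralizer ({x} : Set G) := Subgroup.mem_centralizer_singleton_iff.2 hc.symm
  have h2 : orderOf a ∣ m := by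
    refine dvd_trans ?_ (h.card x hx)
    rw [← Subgroup.orderOf_mk a h1]
    exact orderOf_dvd_natCard _
  rcases (Nat.dvd_prime ht).1 (orderOf_dvd_of_pow_eq_one hat) with h3 | h3
  · exact orderOf_eq_one_iff.1 h3
  · exact absurd (h3 ▸ h2) htm

theorem three_of {q t : ℕ} (ht : t.Prime) (h3 : t ∣ N3 q) (h6 : t ∣ N6 q) : False := by
  by_cases h : t = 3
  · subst h
    have h7 : q % 3 = 0 ∨ q % 3 = 1 ∨ q % 3 = 2 := by omega
    obtain ⟨k1, k2⟩ := three_dvd q
    rcases h7 with h7 | h7 | h7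
    · unfold N3 at h3
      have h8 : (q ^ 2 + q + 1) % 3 = 0 := Nat.mod_eq_zero_of_dvd h3
      rw [Nat.add_mod, Nat.add_mod (q ^ 2), Nat.pow_mod, h7] at h8
      norm_num at h8
    · exact (k1 h7).2 h6
    · exact (k2 h7).2 h3
  · exact cop36 ht h h3 h6

/-- the family -/
def B (p f N : ℕ) : ℕ → ℕ → ℕ → Prop := fun r m e =>
  ((Prim p (f * 3) r ∧ m = N3 (p ^ f)) ∨ (Prim p (f * 6) r ∧ m = N6 (p ^ f))) ∧ r ∣ N ∧ e = 6

theorem prB {N r : ℕ} : Pr (B p f N) r ↔ (Prim p (f * 3) r ∨ Prim p (f * 6) r) ∧ r ∣ N := by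
  constructor
  · rintro ⟨m, e, ⟨h, -⟩ | ⟨h, -⟩, h2, -⟩
    · exact ⟨Or.inl h, h2⟩
    · exact ⟨Or.inr h, h2⟩
  · rintro ⟨h | h, h2⟩
    · exact ⟨_, _, Or.inl ⟨h, rfl⟩, h2, rfl⟩
    · exact ⟨_, _, Or.inr ⟨h, rfl⟩, h2, rfl⟩

/-- `q`-primitive of the class 6 implies `p`-primitive, `f = 2, 4` -/
theorem prim_of_six {t : ℕ} (hp : p.Prime) (hf : f = 2 ∨ f = 4) (h : Prim (p ^ f) 6 t) : Prim p (f * 6) t := by
  have ht := h.prime
  have := Fact.mk ht
  have hpt : ¬ t ∣ p := fun h1 => h.not_dvd (h1.trans (dvd_pow_self p (by omega)))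
  set o := orderOf ((p : ℕ) : ZMod t) with ho
  have hiff : ∀ m, t ∣ p ^ m - 1 ↔ o ∣ m := by
    intro m
    rw [ho, orderOf_dvd_iff_pow_eq_one]
    have h1 : 1 ≤ p ^ m := Nat.one_le_pow _ _ hp.pos
    rw [← Nat.cast_pow, ← (ZMod.natCast_eq_zero_iff (p ^ m - 1) t), Nat.cast_sub h1, Nat.cast_one, sub_eq_zero]
  have hq : ∀ m, o ∣ f * m ↔ 6 ∣ m := by
    intro m
    rw [← hiff, pow_mul]
    exact h.dvd_iff m
  have h6 := (hq 6).2 dvd_rfl
  have h2 : ¬ o ∣ f * 2 := fun h1 => by have := (hq 2).1 h1; omega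
  have h3 : ¬ o ∣ f * 3 := fun h1 => by have := (hq 3).1 h1; omega
  have ho6 : o = f * 6 := by
    have h7 : o ≤ f * 6 := Nat.le_of_dvd (by omega) h6
    rcases hf with rfl | rfl
    · norm_num at h6 h2 h3 h7
      interval_cases o <;> omega
    · norm_num at h6 h2 h3 h7
      interval_cases o <;> omega
  exact ⟨ht, fun m => by rw [hiff, ho6], hpt⟩

theorem zmod_three : ∀ y : ZMod 3, y ^ 4 - y ^ 2 + 1 ≠ 0 := by decide

/-- the cyclotomic number `Φ₁₂` -/
theorem prim_twelve {t : ℕ} (hp : p.Prime) (ht : t.Prime) (h : t ∣ p ^ 4 - p ^ 2 + 1) : Prim p 12 t := by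
  have := Fact.mk ht
  have h42 : p ^ 2 ≤ p ^ 4 := Nat.pow_le_pow_right hp.pos (by norm_num)
  have hz : ((p : ℕ) : ZMod t) ^ 4 - ((p : ℕ) : ZMod t) ^ 2 + 1 = 0 := by
    have h1 := (ZMod.natCast_eq_zero_iff (p ^ 4 - p ^ 2 + 1) t).2 h
    rw [Nat.cast_add, Nat.cast_sub h42, Nat.cast_pow, Nat.cast_pow, Nat.cast_one] at h1
    exact h1
  set x := ((p : ℕ) : ZMod t) with hx
  have h6 : x ^ 6 = -1 := by linear_combination (x ^ 2 + 1) * hz
  have h12 : x ^ 12 = 1 := by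
    calc x ^ 12 = (x ^ 6) ^ 2 := by ring
      _ = 1 := by rw [h6]; ring
  have ht2 : t ≠ 2 := by
    rintro rfl
    rcases hp.eq_two_or_odd' with rfl | hodd
    · norm_num at h
    · have h2 : (p ^ 4 - p ^ 2) % 2 = 0 := by
        have h3 : (p ^ 4) % 2 = 1 := Nat.odd_iff.1 hodd.pow
        have h4 : (p ^ 2) % 2 = 1 := Nat.odd_iff.1 hodd.pow
        omega
      omega
  have ht3 : t ≠ 3 := by
    rintro rfl
    exact zmod_three x hz
  set o := orderOf x with ho
  have ho12 : o ∣ 12 := orderOf_dvd_of_pow_eq_one h12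
  have hne : (-1 : ZMod t) ≠ 1 := by
    have : Fact (2 < t) := ⟨by have := ht.two_le; omega⟩
    exact ZMod.neg_one_ne_one
  have h6' : ¬ o ∣ 6 := fun h1 => by
    rw [ho, orderOf_dvd_iff_pow_eq_one, h6] at h1
    exact hne h1
  have h4' : ¬ o ∣ 4 := fun h1 => by
    rw [ho, orderOf_dvd_iff_pow_eq_one] at h1
    have h2 : x ^ 2 = 2 := by linear_combination h1 - hz
    have h3 : (3 : ZMod t) = 0 := by
      have h4 : x ^ 4 = 4 := by calc x ^ 4 = (x ^ 2) ^ 2 := by ring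
        _ = 4 := by rw [h2]; norm_num
      linear_combination h1 - h4
    have h5 : ((3 : ℕ) : ZMod t) = 0 := by exact_mod_cast h3
    exact ht3 ((Nat.prime_dvd_prime_iff_eq ht Nat.prime_three).1 ((ZMod.natCast_eq_zero_iff 3 t).1 h5))
  have ho' : o = 12 := by
    have h7 : o ≤ 12 := Nat.le_of_dvd (by norm_num) ho12
    interval_cases o <;> omega
  refine ⟨ht, fun m => ?_, fun h1 => ?_⟩
  · rw [← ho', ho, orderOf_dvd_iff_pow_eq_one]
    have h1 : 1 ≤ p ^ m := Nat.one_le_pow _ _ hp.pos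
    rw [hx, ← Nat.cast_pow, ← (ZMod.natCast_eq_zero_iff (p ^ m - 1) t), Nat.cast_sub h1, Nat.cast_one, sub_eq_zero]
  · have h2 : x = 0 := (ZMod.natCast_eq_zero_iff p t).2 h1
    rw [h2] at hz
    norm_num at hz

/-- the hypothesis -/
structure Hp (p f r₃ r₆ N : ℕ) : Prop where
  h3 : Prim p (f * 3) r₃
  h6 : Prim p (f * 6) r₆
  d3 : r₃ ∣ N
  d6 : r₆ ∣ N
  c : 3 ≤ f ∨ (f = 2 ∧ 17 ≤ p ∧ p ^ 4 - p ^ 2 + 1 ∣ N)

theorem phi_ge (h : 17 ≤ p) : 83233 ≤ p ^ 4 - p ^ 2 + 1 := by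
  have h1 : 17 ^ 2 ≤ p ^ 2 := Nat.pow_le_pow_left h 2
  have h2 : p ^ 4 = p ^ 2 * p ^ 2 := by ring
  rw [h2]
  generalize p ^ 2 = y at *
  have h3 : 289 * y ≤ y * y := Nat.mul_le_mul_right _ (by omega)
  have h4 : 288 * 289 ≤ 288 * y := Nat.mul_le_mul_left _ (by omega)
  omega

/-- a divisor with primes of the class 6 only -/
theorem Hp.n6 {r₃ r₆ N : ℕ} (hp : p.Prime) (H : Hp p f r₃ r₆ N) :
    ∃ n, n ∣ N ∧ 14 < n ∧ (∀ r, r.Prime → r ∣ n → Prim p (f * 6) r) ∧ (91 < n ∨ 3 ≤ f) := by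
  rcases H.c with h | ⟨rfl, h17, h⟩
  · have := lt_of_prim H.h6
    exact ⟨r₆, H.d6, by omega, fun r hr hd => ((Nat.prime_dvd_prime_iff_eq hr H.h6.prime).1 hd) ▸ H.h6, Or.inr h⟩
  · have := phi_ge h17
    exact ⟨_, h, by omega, fun r hr hd => prim_twelve hp hr hd, Or.inl (by omega)⟩

theorem mod_of_prim' {r e : ℕ} (hp : 2 ≤ p) (he : 1 ≤ e) (h : Prim p e r) : (r - 1) % e = 0 := mod_of_prim hp he h

theorem Hp.r3 {r₃ r₆ N : ℕ} (hp : p.Prime) (H : Hp p f r₃ r₆ N) (hf : f = 3 ∨ 5 ≤ f) : 14 < r₃ := by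
  have h1 := lt_of_prim H.h3
  rcases hf with rfl | hf
  · have h2 := mod_of_prim hp.two_le (by norm_num) H.h3
    have h3 : r₃ ≠ 10 := by
      intro h
      have := H.h3.prime
      rw [h] at this
      exact absurd this (by norm_num)
    omega
  · omega

theorem Hp.f1 {r₃ r₆ N : ℕ} (H : Hp p f r₃ r₆ N) : 2 ≤ f := by
  rcases H.c with h | ⟨rfl, -, -⟩ <;> omega

/-- **Elementary abelian normal subgroups.** -/
theorem no_elem {T : Type} [Group T] [Finite T] (D : Dt T p f) {M : Subgroup T} {r₃ r₆ : ℕ} (H : Hp p f r₃ r₆ (Nat.card M))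
    {t : ℕ} (ht : t.Prime) (htp : t ≠ p) (hnt : ¬ Pr (B p f (Nat.card M)) t) (A : Subgroup M) (hAn : A.Normal)
    (hAc : ∀ a ∈ A, ∀ b ∈ A, a * b = b * a) (hat : ∀ a ∈ A, a ^ t = 1) : A = ⊥ := by
  have hp := D.hp
  have hf := D.hf
  have h3q := D.h3q
  have hq : 1 ≤ p ^ f := by omega
  have i1 := Fact.mk hp
  have i2 := Fact.mk ht
  by_contra hA1
  obtain ⟨F, _, _, hF⟩ := D.fth
  obtain ⟨τ, hτ⟩ := hF.sub M.subtype M.subtype_injective
  have hPt : IsPGroup t A := fun a => ⟨1, by rw [pow_one]; exact Subtype.ext (hat a a.2)⟩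
  obtain ⟨k, hk⟩ := IsPGroup.iff_card.1 hPt
  have hk0 : k ≠ 0 := by
    rintro rfl
    rw [pow_zero, Subgroup.card_eq_one] at hk
    exact hA1 hk
  have htM : t ∣ Nat.card M := by
    refine dvd_trans ?_ (Subgroup.card_subgroup_dvd_card A)
    rw [hk]
    exact dvd_pow_self t hk0
  have hpA : ¬ p ∣ Nat.card A := by
    intro h
    rw [hk] at h
    exact htp ((Nat.prime_dvd_prime_iff_eq hp ht).1 (hp.dvd_of_dvd_pow h)).symm
  have key : ∀ n, n ∣ Nat.card M → (∀ x : M, (orderOf x).Prime → orderOf x ∣ n → ∀ a ∈ A, x * a = a * x → a = 1) →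
      14 < n → False := fun n h1 h2 h3 => by
    apply hA1
    refine eq_bot_of_dvd hτ hAc hpA h1 h2 ?_
    rw [Fintype.card_fin]
    exact h3
  have fr3 : ¬ t ∣ N3 (p ^ f) → ∀ x : M, Prim p (f * 3) (orderOf x) → ∀ a ∈ A, x * a = a * x → a = 1 :=
    fun htN x hx a ha hc => big_free ((D.b3 _ (prim_pow hf hx)).subgroup M) ht htN rfl (hat a ha) hc
  have fr6 : ¬ t ∣ N6 (p ^ f) → ∀ x : M, Prim p (f * 6) (orderOf x) → ∀ a ∈ A, x * a = a * x → a = 1 :=
    fun htN x hx a ha hc => big_free ((D.b6 _ (prim_pow hf hx)).subgroup M) ht htN rfl (hat a ha) hc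
  by_cases htN : t ∣ N6 (p ^ f)
  · have htN3 : ¬ t ∣ N3 (p ^ f) := fun h => three_of ht h htN
    by_cases hf' : f = 3 ∨ 5 ≤ f
    · exact key r₃ H.d3 (fun x hx hxr a ha hc => fr3 htN3 x (by
        have : orderOf x = r₃ := (Nat.prime_dvd_prime_iff_eq hx H.h3.prime).1 hxr
        exact this ▸ H.h3) a ha hc) (H.r3 hp hf')
    · have hf24 : f = 2 ∨ f = 4 := by
        have := H.f1
        omega
      have ht3 : t ≠ 3 := by
        rintro rfl
        -- `q` is a square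
        have hsq : ∃ y, p ^ f = y * y := by
          rcases hf24 with rfl | rfl
          · exact ⟨p, by ring⟩
          · exact ⟨p ^ 2, by ring⟩
        obtain ⟨y, hy⟩ := hsq
        have h2 : (p ^ f) % 3 ≠ 2 := by
          rw [hy, Nat.mul_mod]
          have : y % 3 = 0 ∨ y % 3 = 1 ∨ y % 3 = 2 := by omega
          rcases this with h | h | h <;> rw [h] <;> norm_num
        have h7 : (p ^ f) % 3 = 0 ∨ (p ^ f) % 3 = 1 := by omega
        rcases h7 with h7 | h7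
        · have h8 : 3 ∣ p ^ f := Nat.dvd_of_mod_eq_zero h7
          have h9 := (Nat.prime_dvd_prime_iff_eq Nat.prime_three hp).1 (Nat.prime_three.dvd_of_dvd_pow h8)
          exact htp h9
        · exact ((three_dvd (p ^ f)).1 h7).2 htN
      have h1 : Prim (p ^ f) 6 t := Cfsg.Agent.H983.KG2.prim_of_order ht hq (by norm_num) (od_N6 ht htN ht3)
      exact hnt (prB.2 ⟨Or.inr (prim_of_six hp hf24 h1), htM⟩)
  · obtain ⟨n, hn, h14, hpr, -⟩ := H.n6 hp
    exact key n hn (fun x hx hxr a ha hc => fr6 htN x (hpr _ hx hxr) a ha hc) h14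

/-- the reduced family of a subgroup -/
theorem red_M (hE : CycFixSolv.{0}) {T : Type} [Group T] [Finite T] (D : Dt T p f) {M : Subgroup T} {r₃ r₆ : ℕ}
    (H : Hp p f r₃ r₆ (Nat.card M)) :
    Red M (Pr (B p f (Nat.card M))) ∧ RFam M (B p f (Nat.card M)) := by
  have hp := D.hp
  have hf := D.hf
  have hq : 1 ≤ p ^ f := Nat.one_le_pow _ _ hp.pos
  have q3 := prim_pow hf H.h3
  have q6 := prim_pow hf H.h6
  constructor
  · refine red_of' (p := p) hE ?_ (prB.2 ⟨Or.inl H.h3, H.d3⟩) H.h3.prime H.d3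
      ((D.b3 r₃ q3).subgroup M).cyc ?_
    · exact pcore_of_piso ((D.iso r₃ q3).sub M) H.d3
    · intro t ht htp hnt A hA hAc hAt
      exact no_elem D H ht htp hnt A hA hAc hAt
  · have h76 : ∀ {r : ℕ}, r.Prime → 7 ≤ r → ¬ r ∣ 6 := fun hr h7 h => by
      have := Nat.le_of_dvd (by norm_num) h
      omega
    have hf2 := H.f1
    have s3 : 7 ≤ r₃ := by
      have := lt_of_prim H.h3
      omega
    have s6 : 7 ≤ r₆ := by
      have := lt_of_prim H.h6
      omega
    refine ⟨?_, ?_, ?_⟩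
    · rintro r m e ⟨⟨h, rfl⟩ | ⟨h, rfl⟩, -, rfl⟩
      · exact (D.b3 r (prim_pow hf h)).subgroup M
      · exact (D.b6 r (prim_pow hf h)).subgroup M
    · rintro r m e ⟨-, hn, rfl⟩
      exact hn
    · rintro r m e ⟨⟨h, rfl⟩ | ⟨h, rfl⟩, -, rfl⟩ hcon
      · rcases H.h6.prime.dvd_mul.1 (H.d6.trans hcon) with h1 | h1
        · exact h76 H.h6.prime s6 h1
        · exact three_of H.h6.prime h1 (prim_N6 hq q6)
      · rcases H.h3.prime.dvd_mul.1 (H.d3.trans hcon) with h1 | h1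
        · exact h76 H.h3.prime s3 h1
        · exact three_of H.h3.prime (prim_N3 hq q3) h1

/-- the simple normal subgroup -/
theorem exists_S (hE : CycFixSolv.{0}) {T : Type} [Group T] [Finite T] (D : Dt T p f) {M : Subgroup T} {r₃ r₆ : ℕ}
    (H : Hp p f r₃ r₆ (Nat.card M)) :
    ∃ S : Subgroup M, S.Normal ∧ IsSimpleGroup S ∧ ¬ IsMulCommutative S ∧ Hp p f r₃ r₆ (Nat.card S) := by
  obtain ⟨hred, hfam⟩ := red_M hE D H
  obtain ⟨S, hSn, hs, hna, hall⟩ := hfam.exists_full hE hred (r₁ := r₃) ⟨Or.inl ⟨H.h3, rfl⟩, H.d3, rfl⟩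
  refine ⟨S, hSn, hs, hna, H.h3, H.h6, (hall r₃ _ _ ⟨Or.inl ⟨H.h3, rfl⟩, H.d3, rfl⟩).2.1,
    (hall r₆ _ _ ⟨Or.inr ⟨H.h6, rfl⟩, H.d6, rfl⟩).2.1, ?_⟩
  rcases H.c with h | ⟨rfl, h17, h⟩
  · exact Or.inl h
  · refine Or.inr ⟨rfl, h17, ?_⟩
    rw [← S.card_mul_index] at h
    refine Nat.Coprime.dvd_of_dvd_mul_right (Nat.coprime_of_dvd fun k hk h2 h3 => ?_) h
    have h4 := prim_twelve D.hp hk h2
    have h5 : k ∣ Nat.card M := by
      rw [← S.card_mul_index]
      exact h3.mul_left _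
    exact (hall k _ _ ⟨Or.inr ⟨h4, rfl⟩, h5, rfl⟩).2.2.1 h3

/-! ### numbers -/

theorem Hp.prod {r₃ r₆ N : ℕ} (hp : p.Prime) (H : Hp p f r₃ r₆ N) :
    ∃ n, n ∣ N ∧ 91 < n ∧ ∀ r, r.Prime → r ∣ n → (r - 1) % 3 = 0 := by
  have hm : ∀ {r k : ℕ}, Prim p (f * (3 * k)) r → 1 ≤ k → (r - 1) % 3 = 0 := by
    intro r k h hk
    have hf2 := H.f1
    have h1 := mod_of_prim hp.two_le (Nat.mul_pos (by omega) (by omega)) h
    have h2 : 3 ∣ r - 1 := (Dvd.intro (f * k) (by ring)).trans (Nat.dvd_of_mod_eq_zero h1)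
    exact Nat.mod_eq_zero_of_dvd h2
  rcases H.c with h | ⟨rfl, h17, h⟩
  · have h3 := lt_of_prim H.h3
    have h6 := lt_of_prim H.h6
    have hne : r₃ ≠ r₆ := by
      rintro rfl
      have := H.h3.unique H.h6
      omega
    have hco : Nat.Coprime r₃ r₆ := (Nat.coprime_primes H.h3.prime H.h6.prime).2 hne
    refine ⟨r₃ * r₆, hco.mul_dvd_of_dvd_of_dvd H.d3 H.d6, ?_, fun r hr hd => ?_⟩
    · calc 91 < 10 * 19 := by norm_num
        _ ≤ r₃ * r₆ := Nat.mul_le_mul (by omega) (by omega)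
    · rcases hr.dvd_mul.1 hd with h | h
      · have := (Nat.prime_dvd_prime_iff_eq hr H.h3.prime).1 h
        subst this
        exact hm (k := 1) H.h3 le_rfl
      · have := (Nat.prime_dvd_prime_iff_eq hr H.h6.prime).1 h
        subst this
        exact hm (k := 2) H.h6 (by norm_num)
  · have h1 := phi_ge h17
    exact ⟨_, h, by omega, fun r hr hd => hm (k := 2) (prim_twelve hp hr hd) (by norm_num)⟩

/-- **Cross characteristic.** -/
theorem no_cross {X : Art.Sh} {l a N r₃ r₆ : ℕ} (hR : Art.Real X l a N) (hlb : lb X (l ^ a) ≤ 14) (hp : p.Prime)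
    (H : Hp p f r₃ r₆ N) : False := by
  obtain ⟨hl, ha, hokX, heq⟩ := hR
  have hreg := mem_reg (by norm_num) hl ha hokX hlb
  have hs' : smooth (NA X l a) = true :=
    List.all_eq_true.1 smooth_reg (X, (l, a)) (mem_reg le_rfl hl ha hokX (hlb.trans (by norm_num)))
  have hsS : smooth (NS X l a) = true := by
    have h1 : NS X l a ∣ NA X l a := Dvd.intro_left _ rfl
    have h2 : NA X l a ∣ prs.prod ^ 100 := Nat.dvd_of_mod_eq_zero (by simpa [smooth] using hs')
    simpa [smooth] using Nat.mod_eq_zero_of_dvd (h1.trans h2)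
  have hM : OL X (l ^ a) = Art.dd X (l ^ a) * N := by unfold OL; rw [numL_eq]; exact heq.symm
  have hNM : N ∣ OL X (l ^ a) := Dvd.intro_left _ hM.symm
  have hNS : ∀ r, r.Prime → r ∣ OL X (l ^ a) → r ∣ NS X l a := by
    intro r hr h
    unfold NS
    have h1 : r ∣ (l ^ a) ^ Art.NN X * numL X (l ^ a) := h
    rcases hr.dvd_mul.1 h1 with h2 | h2
    · exact (hr.dvd_of_dvd_pow (hr.dvd_of_dvd_pow h2)).mul_right _
    · exact h2.mul_left _
  have hb' := List.all_eq_true.1 bnd14_true (X, (l, a)) hreg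
  simp only [Bool.and_eq_true, Nat.ble_eq, Nat.blt_eq, List.all_eq_true] at hb'
  obtain ⟨hb1, hb2, hb3⟩ := hb'
  have hM0 : OL X (l ^ a) ≠ 0 := by
    intro h0
    have h3 : l ^ a ≠ 0 := pow_ne_zero _ hl.ne_zero
    have h4 : NS X l a ≠ 0 := by
      intro h5
      have h6 : NS X l a ∣ prs.prod ^ 100 := Nat.dvd_of_mod_eq_zero (by simpa [smooth] using hsS)
      rw [h5] at h6
      have h7 := Nat.eq_zero_of_zero_dvd h6
      have h8 : prs.prod ≠ 0 := by decide +kernel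
      exact pow_ne_zero 100 h8 h7
    apply h4
    unfold OL at h0
    rcases Nat.mul_eq_zero.1 h0 with h5 | h5
    · exact absurd h5 (pow_ne_zero _ h3)
    · unfold NS
      rw [h5, mul_zero]
  obtain ⟨n, hn, h91, hpr⟩ := H.prod hp
  have h1 : n ∣ De (pd (NS X l a)) (OL X (l ^ a)) 3 :=
    dvd_De hM0 hb2 (hn.trans hNM) fun r hr hd => ⟨mem_pd hsS hr (hNS r hr ((hd.trans hn).trans hNM)), hpr r hr hd⟩
  have h2 := Nat.le_of_dvd (Nat.pos_of_ne_zero (De_ne_zero hM0)) h1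
  omega

/-! ### sporadic groups -/

def tA : Bool := spor.all fun x => (pd x.2).all fun r => (pd x.2).all fun s => (List.range 12).all
  fun f => Nat.blt f 3 || (r == s || (!((r - 1) % (3 * f) == 0) || !((s - 1) % (6 * f) == 0)))

def tB : Bool := spor.all fun x => Nat.blt (De (pd x.2) x.2 12) 83233

theorem tA_true : tA = true := by decide +kernel
theorem tB_true : tB = true := by decide +kernel

/-- **Sporadic groups.** -/
theorem no_spor {x : Grp × ℕ} (hx : x ∈ spor) (hp : p.Prime) {r₃ r₆ : ℕ} (H : Hp p f r₃ r₆ x.2) : False := by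
  have hs' : smooth x.2 = true := List.all_eq_true.1 smooth_spor x hx
  have hb' := List.all_eq_true.1 bndSp_true x hx
  simp only [Bool.and_eq_true, Nat.ble_eq, Nat.blt_eq, List.all_eq_true] at hb'
  obtain ⟨-, hb2, hb3⟩ := hb'
  have hM0 : x.2 ≠ 0 := by
    have : ∀ x ∈ spor, x.2 ≠ 0 := by decide +kernel
    exact this x hx
  have h3 := lt_of_prim H.h3
  have h6 := lt_of_prim H.h6
  have m3 := mod_of_prim hp.two_le (by have := H.f1; omega) H.h3
  have m6 := mod_of_prim hp.two_le (by have := H.f1; omega) H.h6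
  have e3 := mem_pd hs' H.h3.prime H.d3
  have e6 := mem_pd hs' H.h6.prime H.d6
  have hne : r₃ ≠ r₆ := by
    rintro rfl
    have := H.h3.unique H.h6
    have := H.f1
    omega
  rcases H.c with h | ⟨rfl, h17, h⟩
  · have h71 := hb3 r₆ e6
    have h4 := List.all_eq_true.1 (List.all_eq_true.1 (List.all_eq_true.1 (List.all_eq_true.1 tA_true x hx) r₃ e3) r₆ e6)
      f (List.mem_range.2 (by omega))
    have h5 : ¬ f < 3 := by omega
    rw [mul_comm] at m3 m6
    simp [m3, m6, hne, h5] at h4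
  · have h1 := List.all_eq_true.1 tB_true x hx
    simp only [Nat.blt_eq] at h1
    have h2 : p ^ 4 - p ^ 2 + 1 ∣ De (pd x.2) x.2 12 := dvd_De hM0 hb2 h fun r hr hd =>
      ⟨mem_pd hs' hr (hd.trans h), mod_of_prim hp.two_le (by norm_num) (prim_twelve hp hr hd)⟩
    have h4 := Nat.le_of_dvd (Nat.pos_of_ne_zero (De_ne_zero hM0)) h2
    have := phi_ge h17
    omega

/-- the order of a primitive prime determines `Mg` -/
theorem all_six {g : Grp} {c : ℕ} (hp : p.Prime) (hf2 : 2 ≤ f) (hg : Cond g) (hch : HasChar p g)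
    (hc : den g * c = num g) (hdvd : c ∣ num (.g2 (p ^ f))) {r : ℕ} (hr : Prim p (f * 6) r) (hrc : r ∣ c) :
    ∀ s, Prim p (f * 6) s → s ∣ c := by
  obtain ⟨f₁, hf₁, hfl, hK, hY⟩ := kd_all hp hg hch hc
  have hT := td_g2 hp (show 1 ≤ f by omega) hdvd
  have hM2 := two_le_Mg hg hch
  have hle : f * 6 ≤ f₁ * Mg g := by
    obtain ⟨x, hx, hx2⟩ := hK.exp hr hrc
    have hx3 := hK.le hx
    exact (Nat.le_of_dvd (Nat.mul_pos (by omega) (by omega)) hx2).trans (Nat.mul_le_mul_left _ hx3.2)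
  obtain ⟨t, ht⟩ := exists_prim (q := p) (e := f₁ * Mg g) hp.two_le (by omega) (by rintro ⟨-, h6⟩; omega)
  obtain ⟨i, hi, hi2⟩ := hT.exp ht (hK.has hY (by omega) ht)
  have hi' : i ∈ [2, 6] := hi
  simp only [List.mem_cons, List.not_mem_nil, or_false] at hi'
  have hM : f₁ * Mg g = f * 6 := by
    rcases hi' with rfl | rfl
    · have := Nat.le_of_dvd (by omega) hi2
      omega
    · have := Nat.le_of_dvd (by omega) hi2
      omega
  intro s hs
  rw [← hM] at hs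
  exact hK.has hY (by omega) hs

/-- **Subgroups of `G₂(q)` containing one primitive prime of each of the classes 3 and 6.** -/
theorem gg (hnm : ∀ (S : Type) [Group S] [Finite S] [IsSimpleGroup S], ¬ IsMulCommutative S → ∃ g, IsNamed g S)
    (hE : CycFixSolv.{0}) {T : Type} [Group T] [Finite T] (D : Dt T p f) {M : Subgroup T} {r₃ r₆ : ℕ}
    (H : Hp p f r₃ r₆ (Nat.card M)) : M = ⊤ := by
  have hp := D.hp
  have hf := D.hf
  have hf2 := H.f1
  have h3q := D.h3q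
  have hq : 1 ≤ p ^ f := by omega
  obtain ⟨S, hSn, hSs, hna, HS⟩ := exists_S hE D H
  obtain ⟨g, hg⟩ := hnm S hna
  have p3 := prim_pow hf H.h3
  have p6 := prim_pow hf H.h6
  have hd : Nat.card S ∣ OL .G2 (p ^ f) := by
    rw [← D.card]
    exact (Subgroup.card_subgroup_dvd_card S).trans (Subgroup.card_subgroup_dvd_card M)
  have hdM : Nat.card S ∣ Nat.card M := Subgroup.card_subgroup_dvd_card S
  have hna' : ¬ ∀ a b : S, a * b = b * a := fun h => hna ⟨⟨h⟩⟩
  have hne : r₃ ≠ r₆ := by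
    rintro rfl
    have := H.h3.unique H.h6
    omega
  rcases name_cases hg.cond with ⟨l, hl, hch⟩ | ⟨m, h9, rfl⟩ | ⟨x, hx, hxg⟩
  · by_cases hpl : p = l
    · subst hpl
      have hiso : H325.Loc.PIso p r₃ S := ((D.iso r₃ p3).sub M).sub S
      have hdS : Nat.card S ∣ num (.g2 (p ^ f)) := hd
      have full : p ^ (6 * f) ∣ Nat.card S → M = ⊤ := by
        intro h
        by_contra hM
        have h1 := M.card_mul_index
        have h2 : ¬ p ∣ M.index := by
          intro h3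
          have h4 : p ^ (6 * f) * p ∣ Nat.card T := by
            rw [← h1]
            exact mul_dvd_mul (h.trans hdM) h3
          rw [← pow_succ, D.card] at h4
          have h4' : p ^ (6 * f + 1) ∣ (p ^ f) ^ 6 * (((p ^ f) ^ 2 - 1) * ((p ^ f) ^ 6 - 1)) := h4
          rw [mul_comm 6 f, pow_succ, pow_mul] at h4'
          have h5 := Nat.dvd_of_mul_dvd_mul_left (by positivity) h4'
          have hpf : p ∣ p ^ f := dvd_pow_self p (by omega)
          have h6 : ∀ n, 1 ≤ n → ¬ p ∣ (p ^ f) ^ n - 1 := by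
            intro n hn h
            have h7 : p ∣ (p ^ f) ^ n := hpf.trans (dvd_pow_self _ (by omega))
            have h8 : 1 ≤ (p ^ f) ^ n := Nat.one_le_pow _ _ (by omega)
            have h9 := Nat.dvd_sub h7 h
            rw [Nat.sub_sub_self h8] at h9
            exact hp.one_lt.ne' (Nat.dvd_one.1 h9)
          rcases hp.dvd_mul.1 h5 with h7 | h7
          · exact h6 2 (by norm_num) h7
          · exact h6 6 (by norm_num) h7
        exact D.par.elim (D.iso r₃ p3) M hM (fun h3 => h2 ((dvd_pow_self p two_ne_zero).trans h3)) H.d3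
      rcases Cfsg.Agent.H394.Wei.charp_g2_6 hp hf (by rintro ⟨-, rfl⟩; omega) hg.cond hch hg.eq hdS
          (all_six hp hf2 hg.cond hch hg.eq hdS H.h6 HS.d6) with rfl | rfl | rfl | ⟨hp3, rfl⟩ | ⟨hp2, h, rfl, rfl | rfl⟩
      · apply full
        have h1 : 1 * Nat.card S = (p ^ f) ^ 6 * (((p ^ f) ^ 2 - 1) * ((p ^ f) ^ 6 - 1)) := hg.eq
        rw [one_mul] at h1
        rw [h1, mul_comm 6 f, pow_mul]
        exact dvd_mul_right _ _
      · exact (kill_psl2 hp hg p3 hiso).elim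
      · exfalso
        have h1 : r₃ ∣ num (.psu 3 (p ^ f)) := by
          rw [← hg.eq]
          exact HS.d3.mul_left _
        exact not_dvd_u (e := 3) p3 rfl (by norm_num) (by norm_num) _ h1
      · exfalso
        have h1 : 1 * Nat.card S = (p ^ f) ^ 3 * ((p ^ f - 1) * ((p ^ f) ^ 3 + 1)) := hg.eq
        have h2 := HS.d3
        rw [one_mul] at h1
        rw [h1] at h2
        rcases p3.prime.dvd_mul.1 h2 with h3 | h3
        · exact p3.not_dvd_pow _ h3
        · rcases p3.prime.dvd_mul.1 h3 with h3 | h3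
          · rw [← pow_one (p ^ f), p3.dvd_iff] at h3
            exact absurd h3 (by norm_num)
          · have h4 : r₃ ∣ (p ^ f) ^ 3 - 1 := p3.dvd dvd_rfl
            have h5 := Nat.dvd_sub h3 h4
            have h6 : 1 ≤ (p ^ f) ^ 3 := Nat.one_le_pow _ _ (by omega)
            rw [show (p ^ f) ^ 3 + 1 - ((p ^ f) ^ 3 - 1) = 2 by omega] at h5
            exact p3.not_dvd_two le_rfl h5
      · apply full
        have h1 : 1 * Nat.card S = (p ^ h) ^ 12 * ((p ^ h - 1) * ((p ^ h) ^ 3 + 1) * ((p ^ h) ^ 4 - 1) * ((p ^ h) ^ 6 + 1)) :=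
          hg.eq
        rw [one_mul] at h1
        rw [h1, show 6 * (2 * h) = h * 12 by ring, pow_mul]
        exact dvd_mul_right _ _
      · exfalso
        have h1 : 1 * Nat.card S = (p ^ (3 * h)) ^ 2 * ((p ^ (3 * h) - 1) * ((p ^ (3 * h)) ^ 2 + 1)) := hg.eq
        have h2 := HS.d3
        rw [one_mul] at h1
        rw [h1] at h2
        have h0 := H.h3
        rcases p3.prime.dvd_mul.1 h2 with h3 | h3
        · rw [← pow_mul] at h3
          exact h0.not_dvd_pow _ h3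
        · rcases p3.prime.dvd_mul.1 h3 with h3 | h3
          · rw [h0.dvd_iff] at h3
            have := Nat.le_of_dvd (by omega) h3
            omega
          · have h4 : r₃ ∣ p ^ (6 * h) - 1 := (h0.dvd_iff _).2 ⟨1, by ring⟩
            have h7 : (p ^ (3 * h)) ^ 2 = p ^ (6 * h) := by rw [← pow_mul]; congr 1; ring
            rw [h7] at h3
            have h5 := Nat.dvd_sub h3 h4
            have h6 : 1 ≤ p ^ (6 * h) := Nat.one_le_pow _ _ hp.pos
            rw [show p ^ (6 * h) + 1 - (p ^ (6 * h) - 1) = 2 by omega] at h5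
            exact p3.not_dvd_two le_rfl h5
    · exfalso
      obtain ⟨X, f₁, h1, h2, -⟩ := exists_lie hl hg hch
      obtain ⟨F, _, hcF, hFth⟩ := D.fth
      have hlF : (l : F) ≠ 0 := by
        intro h
        exact hpl ((Nat.prime_dvd_prime_iff_eq hp hl).1 ((CharP.cast_eq_zero_iff F p l).1 h))
      have h3 := lb_le hna' (by norm_num) ((hFth.sub M.subtype M.subtype_injective).sub S.subtype S.subtype_injective)
        h1 hg.real h2 hlF
      exact no_cross h2 h3 hp HS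
  · exfalso
    have k3 := mod_of_prim hp.two_le (Nat.mul_pos (by omega) (by omega)) H.h3
    have k6 := mod_of_prim hp.two_le (Nat.mul_pos (by omega) (by omega)) H.h6
    have l3 := lt_of_prim H.h3
    have l6 := lt_of_prim H.h6
    obtain ⟨j3, hj3⟩ : 3 ∣ r₃ - 1 := (Dvd.intro_left f rfl).trans (Nat.dvd_of_mod_eq_zero k3)
    obtain ⟨j6, hj6⟩ : 3 ∣ r₆ - 1 := (Dvd.intro (f * 2) (by ring)).trans (Nat.dvd_of_mod_eq_zero k6)
    have ho3 : r₃ % 2 = 1 := H.h3.prime.eq_two_or_odd.resolve_left (by omega)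
    have ho6 : r₆ % 2 = 1 := H.h6.prime.eq_two_or_odd.resolve_left (by omega)
    obtain ⟨e'⟩ := hg.real
    have h9 : 5 ≤ m := hg.cond
    have hb3 := ((D.b3 r₃ p3).subgroup M).subgroup S
    have hb6 := ((D.b6 r₆ p6).subgroup M).subgroup S
    have key : ∀ {r s m' e : ℕ}, Big S r m' e → s.Prime → 5 ≤ r → r + 4 ≤ s → r ∣ Nat.card S → s ∣ Nat.card S →
        False := fun {r s m' e} hb hs h5 h4 hdr hds => by
      refine Cfsg.Agent.H290.ElRich.not_alt hb.prime hs h5 h4 (by omega) e' hdr hds (fun x hx => ?_)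
      have := hb.cyc x hx
      let _ := IsCyclic.commGroup (α := ↥(Subgroup.centralizer ({x} : Set S)))
      infer_instance
    rcases Nat.lt_or_gt_of_ne hne with h | h
    · exact key hb3 H.h6.prime (by omega) (by omega) HS.d3 HS.d6
    · exact key hb6 H.h3.prime (by omega) (by omega) HS.d6 HS.d3
  · exfalso
    subst hxg
    have h2 : Nat.card S = x.2 := (table : OrderTable).spor S x hx hg.real
    rw [h2] at HS
    exact no_spor hx hp HS

end Cfsg.Agent.H420.GG
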