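import Cfsg.Agent.H420.Rg.G2P
import Cfsg.Agent.H420.Rg.GG

/-!
# S3691, `G₂(q)`, `q > 175`: the row, given the data (helper420)
-/

set_option autoImplicit false

namespace Cfsg.Agent.H420.Rg

open Cfsg Cfsg.Agent.OrdDiv Cfsg.Agent.H436 Cfsg.Agent.H915.GN Cfsg.Agent.H264.GN Cfsg.Agent.H264.FKS Cfsg.Agent.H325.Same
  Cfsg.Agent.H56.Exc

variable {p f : ℕ}

theorem cyc_of_big {T : Type*} [Group T] [Finite T] {r m e : ℕ} (h : Big T r m e) (P : Subgroup T) (hP : IsPGroup r P) :
    IsCyclic P := by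
  have := Fact.mk h.prime
  rcases subsingleton_or_nontrivial P with h1 | h1
  · infer_instance
  · have h2 := hP.center_nontrivial
    have hPc : IsPGroup r (Subgroup.center P) := hP.to_subgroup _
    obtain ⟨k, hk⟩ := IsPGroup.iff_card.1 hPc
    have hk0 : k ≠ 0 := by
      rintro rfl
      rw [pow_zero] at hk
      have := Finite.one_lt_card (α := Subgroup.center P)
      omega
    obtain ⟨z, hz⟩ := exists_prime_orderOf_dvd_card' (G := Subgroup.center P) r (hk ▸ dvd_pow_self r hk0)
    have hz2 : orderOf ((z : P) : T) = r := by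
      rw [Subgroup.orderOf_coe, Subgroup.orderOf_coe, hz]
    have h3 := h.cyc _ hz2
    have hle : P ≤ Subgroup.centralizer ({((z : P) : T)} : Set T) := by
      intro x hx
      rw [Subgroup.mem_centralizer_singleton_iff]
      have h4 := (Subgroup.mem_center_iff.1 z.2) ⟨x, hx⟩
      exact congrArg Subtype.val h4
    exact isCyclic_of_injective (Subgroup.inclusion hle) (Subgroup.inclusion_injective hle)

theorem phi_dvd (p : ℕ) (hp : 1 ≤ p) : p ^ 4 - p ^ 2 + 1 ∣ (p ^ 2) ^ 6 * (((p ^ 2) ^ 2 - 1) * ((p ^ 2) ^ 6 - 1)) := by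
  refine Dvd.dvd.mul_left (Dvd.dvd.mul_left ?_ _) _
  have h42 : p ^ 2 ≤ p ^ 4 := Nat.pow_le_pow_right hp (by norm_num)
  have h1 : 1 ≤ (p ^ 2) ^ 6 := Nat.one_le_pow _ _ (Nat.pow_pos hp)
  have h6 : 1 ≤ p ^ 6 := Nat.one_le_pow _ _ hp
  refine ⟨(p ^ 6 - 1) * (p ^ 2 + 1), ?_⟩
  zify [h42, h1, h6]
  ring

theorem noTri_g2 {T : Type} [Group T] [Finite T] (D : GD T p f) (D' : GG.Dt T p f) (h175 : 175 < p ^ f)
    (hfull : ∀ M : Subgroup T, (∀ r, (Prim (p ^ f) 3 r ∨ Prim (p ^ f) 6 r) → ¬ r ∣ f → ¬ r ∣ M.index) → M = ⊤)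
    (hO : Nat.card (Out T) = if p = 3 then 2 * f else f) {X Y : Subgroup T} {e : ℕ} (h : Tri T X Y e) : False := by
  have hp := D.hp
  have hf := D.hf
  have hO2 : Nat.card (Out T) ∣ 2 * f := by
    rw [hO]
    split_ifs
    · exact dvd_rfl
    · exact dvd_mul_left _ _
  have he : ∀ u, p ^ u ∣ e → p ^ u ∣ f := by
    intro u hu
    have h1 := hu.trans h.out
    rw [hO] at h1
    split_ifs at h1 with h3
    · refine Nat.Coprime.dvd_of_dvd_mul_left (Nat.Coprime.pow_left _ ?_) h1
      rw [h3]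
      norm_num
    · exact h1
  have hcyc : ∀ r, PP p f r → ∀ P : Subgroup T, IsPGroup r P → IsCyclic P := by
    intro r hr P hP
    obtain ⟨m, hb, -⟩ := D.big r (hr.q hf)
    exact cyc_of_big hb P hP
  have hre : ∀ r, PP p f r → ¬ r ∣ 2 * f := by
    intro r hr hd
    have h1 := Nat.le_of_dvd (by omega) hd
    rcases hr with hr | hr
    · have := lt_of_prim hr
      omega
    · have := lt_of_prim hr
      omega
  have hrf : ∀ r, PP p f r → ¬ r ∣ e := fun r hr hd => hre r hr ((hd.trans h.out).trans hO2)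
  have hrT : ∀ r, PP p f r → r ∣ Nat.card T := by
    intro r hr
    rw [D.card]
    refine Dvd.dvd.mul_left (Dvd.dvd.mul_left ?_ _) _
    rcases hr.q hf with h1 | h1
    · exact h1.dvd (by norm_num)
    · exact h1.dvd dvd_rfl
  obtain ⟨r₃, h3⟩ := exists_prim (q := p) (e := f * 3) hp.two_le (by omega) (by
    rintro ⟨rfl, h6⟩
    have : f = 2 := by omega
    subst this
    norm_num at h175)
  obtain ⟨r₆, h6⟩ := exists_prim (q := p) (e := f * 6) hp.two_le (by omega) (by
    rintro ⟨rfl, h6⟩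
    have : f = 1 := by omega
    subst this
    norm_num at h175)
  -- all primes in one factor
  have key : ∀ (X Y : Subgroup T), Tri T X Y e → r₃ ∣ Nat.card X → False := by
    intro X Y h hX
    have hnY : ∀ r, PP p f r → ¬ r ∣ Nat.card Y := fun r hr hrY =>
      noTri_both D h175 h he hcyc (Or.inl h3) hr hX hrY
    have hnI : ∀ r, PP p f r → ¬ r ∣ X.index := by
      intro r hr hd
      rw [h.index_left] at hd
      rcases hr.prime.dvd_mul.1 hd with h1 | h1
      · exact hnY r hr h1
      · exact hrf r hr h1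
    have hallX : ∀ r, PP p f r → r ∣ Nat.card X := fun r hr =>
      (h.prime_dvd hr.prime (hrT r hr) (hrf r hr)).resolve_right (hnY r hr)
    by_cases hf1 : f = 1
    · subst hf1
      apply h.left
      refine hfull X fun r hr _ => hnI r ?_
      rw [pow_one] at hr
      unfold PP
      rw [one_mul, one_mul]
      exact hr
    · apply h.left
      refine GG.gg D.nm D.solv D' (r₃ := r₃) (r₆ := r₆) ⟨h3, h6, hX, hallX r₆ (Or.inr h6), ?_⟩
      by_cases hf2 : f = 2
      · subst hf2
        have h17 : 17 ≤ p := by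
          by_contra hcon
          have h14 : 14 ≤ p := by
            by_contra h14
            have := Nat.pow_le_pow_left (show p ≤ 13 by omega) 2
            omega
          interval_cases p <;> revert hp <;> norm_num
        refine Or.inr ⟨rfl, h17, ?_⟩
        have h1 : p ^ 4 - p ^ 2 + 1 ∣ Nat.card X * X.index := by
          rw [X.card_mul_index, D.card]
          exact phi_dvd p hp.one_le
        refine Nat.Coprime.dvd_of_dvd_mul_right (Nat.coprime_of_dvd fun k hk h2 h3 => ?_) h1
        exact hnI k (Or.inr (GG.prim_twelve hp hk h2)) h3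
      · left
        omega
  rcases h.prime_dvd h3.prime (hrT r₃ (Or.inl h3)) (hrf r₃ (Or.inl h3)) with h1 | h1
  · exact key X Y h h1
  · exact key Y X h.symm h1

end Cfsg.Agent.H420.Rg
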